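import Groth.Agent.ThetaL.Open
import Groth.Agent.GaNotSC.Orbit
import Groth.Agent.AlgStLib.Yoneda
import Mathlib.RingTheory.FinitePresentation

/-!
# Affine morphisms are Θ-reductive and S-complete
-/

set_option autoImplicit false
set_option linter.style.haveILetI false
set_option backward.isDefEq.respectTransparency false
set_option backward.isDefEq.respectTransparency.types false

universe u

open CategoryTheory CategoryTheory.Functor CategoryTheory.Limits MonoidalCategory CartesianMonoidalCategory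
  AlgebraicGeometry

namespace Groth.Agent.ThetaL

open Groth.Agent.QuotLib Groth.Agent.GaNotSC

local notation "K₀" => Scheme.fppfPrecoverage

section Gm

variable (R : Type u) [CommRing R]

theorem flat_Gm : Flat (ThetaS.Gm R).hom :=
  (HasRingHomProperty.Spec_iff (P := @Flat)).mpr (RingHom.flat_algebraMap_iff.mpr
    (inferInstance : Module.Flat R (ThetaS.Lau R)))

theorem lfp_Gm [IsNoetherianRing R] : LocallyOfFinitePresentation (ThetaS.Gm R).hom :=
  (HasRingHomProperty.Spec_iff (P := @LocallyOfFinitePresentation)).mpr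
    (RingHom.finitePresentation_algebraMap.mpr (Algebra.FinitePresentation.of_finiteType.mp
      (inferInstance : Algebra.FiniteType R (ThetaS.Lau R))))

theorem affine_Gm : IsAffineHom (ThetaS.Gm R).hom :=
  have : IsAffine (ThetaS.Gm R).left := isAffine_Spec _
  have : IsAffine (Spec (CommRingCat.of R)) := isAffine_Spec _
  isAffineHom_of_isAffine _

end Gm

section Transfer

variable {A : Type u} [CommRing A] {B : CommRingCat.{u}} (e : B ≅ CommRingCat.of A)

theorem inv_regular {a : A} (ha : ∀ x, a * x = 0 → x = 0) : ∀ y, e.inv a * y = 0 → y = 0 := fun y hy => by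
  have h : e.hom (e.inv a) * e.hom y = 0 := by rw [← map_mul, hy, map_zero]
  have h' : a * e.hom y = 0 := by rwa [e.inv_hom_id_apply] at h
  have := congrArg e.inv (ha _ h')
  rwa [e.hom_inv_id_apply, map_zero] at this

theorem inv_dvd {a b : A} (hab : ∀ x, a ∣ b * x → a ∣ x) : ∀ y, e.inv a ∣ e.inv b * y → e.inv a ∣ y := fun y hy => by
  obtain ⟨c, hc⟩ := hy
  have h : b * e.hom y = a * e.hom c := by
    have := congrArg e.hom hc
    rwa [map_mul, map_mul, e.inv_hom_id_apply, e.inv_hom_id_apply] at this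
  obtain ⟨d, hd⟩ := hab _ ⟨_, h⟩
  refine ⟨e.inv d, ?_⟩
  rw [← map_mul, ← hd, e.hom_inv_id_apply]

end Transfer

section Line

variable {R : Type u} [CommRing R]

theorem line_act_mem_iff (c : R) (q : (ThetaS.Gm R ⊗ ThetaS.Line R).left) :
    ((ThetaS.lineAction R).act.left q ∈ (ThetaS.Line R).left.basicOpen (ThetaS.lineFn Polynomial.X) ↔
        (snd (ThetaS.Gm R) (ThetaS.Line R)).left q ∈ (ThetaS.Line R).left.basicOpen (ThetaS.lineFn Polynomial.X)) ∧
      ((ThetaS.lineAction R).act.left q ∈ (ThetaS.Line R).left.basicOpen (ThetaS.lineFn (Polynomial.C c)) ↔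
        (snd (ThetaS.Gm R) (ThetaS.Line R)).left q ∈
          (ThetaS.Line R).left.basicOpen (ThetaS.lineFn (Polynomial.C c))) := by
  let Y := (ThetaS.Gm R ⊗ ThetaS.Line R).left
  let K : Type u := Y.residueField q
  let g : CommRingCat.of R ⟶ CommRingCat.of K :=
    Spec.preimage (Y.fromSpecResidueField q ≫ (ThetaS.Gm R ⊗ ThetaS.Line R).hom)
  letI : Algebra R K := g.hom.toAlgebra
  let x : CoactBr.sp R K ⟶ ThetaS.Gm R ⊗ ThetaS.Line R := Over.homMk (Y.fromSpecResidueField q) (by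
    refine Eq.trans ?_ (show Spec.map g = _ from rfl)
    exact (Spec.map_preimage _).symm)
  let y₀ : (CoactBr.sp R K).left := IsLocalRing.closedPoint K
  have hy : x.left y₀ = q := Scheme.fromSpecResidueField_apply _ _
  obtain ⟨lam, hlam⟩ := exists_pt_eq (x ≫ fst _ _ : CoactBr.sp R K ⟶ CoactBr.sp R (ThetaS.Lau R))
  obtain ⟨α, hα⟩ := exists_pt_eq (x ≫ snd _ _)
  let a := α Polynomial.X
  have hα' : α = ThetaS.linePt a := Polynomial.algHom_ext (by simp [a])
  have hx : x ≫ (ThetaS.lineAction R).act = CoactBr.pt (ThetaS.linePt (lam (ThetaS.zPow R 1) * a)) := by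
    rw [← ThetaS.lineAction_pt lam a, ← hα', ← hlam, ← hα]
    congr 1
    exact CartesianMonoidalCategory.hom_ext _ _ (by rw [lift_fst]) (by rw [lift_snd])
  have e1 : ∀ (m : ThetaS.Gm R ⊗ ThetaS.Line R ⟶ ThetaS.Line R), m.left q = (x ≫ m).left y₀ :=
    fun m => (congrArg m.left hy).symm
  rw [e1, e1, hx, hα]
  constructor
  · rw [pt_mem_basicOpen, pt_mem_basicOpen]
    show Polynomial.aeval _ Polynomial.X ≠ 0 ↔ a ≠ 0
    simp [lam_ne_zero]
  · rw [pt_mem_basicOpen, pt_mem_basicOpen, hα']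
    show Polynomial.aeval _ (Polynomial.C c) ≠ 0 ↔ Polynomial.aeval _ (Polynomial.C c) ≠ 0
    rw [Polynomial.aeval_C, Polynomial.aeval_C]

end Line

variable {S : Scheme.{u}} {𝒳 𝒴 : AlgSt.Cat S} {f : 𝒳 ⥤ᵇ 𝒴}

theorem repByAlgSp1_of_with {P : MorphismProperty (AlgSp.Sp S)} (hf : AlgSt.RepByAlgSpWith P f) :
    AlgSt.RepByAlgSp1 f := fun U y => by
  obtain ⟨F, e, he, -⟩ := hf U y
  exact ⟨F, e, he⟩

/-- Affine morphisms are Θ-reductive. -/
theorem isThetaReductive_of_affine (h𝒳 : FibCat.IsFibGrpd 𝒳.p) (h𝒴 : FibCat.IsFibGrpd 𝒴.p)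
    (hf : AlgSt.RepByAlgSpWith (AlgSp.RepWith @IsAffineHom) f) : ThetaS.IsThetaReductive K₀ f := by
  intro R _ _ _ ϖ hϖ h sq
  have : f.toFunctor.Faithful := AlgStLib.faithful_of_repByAlgSp1 h𝒴 f (repByAlgSp1_of_with hf)
  have := flat_Gm R
  have := lfp_Gm R
  have := affine_Gm R
  have : IsAffine (ThetaS.Line R).left := isAffine_Spec _
  have : IsAffine (Spec (CommRingCat.of R)) := isAffine_Spec _
  refine uniquelyFills_two hf (ThetaS.lineFn Polynomial.X) (ThetaS.lineFn (Polynomial.C ϖ)) (fun A => Iff.rfl)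
    (inv_regular (Scheme.ΓSpecIso _) fun x hx => (mul_eq_zero.1 hx).resolve_left Polynomial.X_ne_zero)
    (inv_regular (Scheme.ΓSpecIso _) fun x hx =>
      (mul_eq_zero.1 hx).resolve_left (Polynomial.C_ne_zero.2 hϖ.ne_zero))
    (inv_dvd (Scheme.ΓSpecIso _) fun x hx => ?_)
    (fun q => (line_act_mem_iff ϖ q).1) (fun q => (line_act_mem_iff ϖ q).2) sq
  refine (Polynomial.prime_X.dvd_or_dvd hx).resolve_left fun hd => ?_
  rw [Polynomial.X_dvd_iff, Polynomial.coeff_C_zero] at hd
  exact hϖ.ne_zero hd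

/-- Affine morphisms are S-complete. -/
theorem isSComplete_of_affine (h𝒳 : FibCat.IsFibGrpd 𝒳.p) (h𝒴 : FibCat.IsFibGrpd 𝒴.p)
    (hf : AlgSt.RepByAlgSpWith (AlgSp.RepWith @IsAffineHom) f) : ThetaS.IsSComplete K₀ f := by
  intro R _ _ _ π hπ h sq
  have : f.toFunctor.Faithful := AlgStLib.faithful_of_repByAlgSp1 h𝒴 f (repByAlgSp1_of_with hf)
  have := flat_Gm R
  have := lfp_Gm R
  have := affine_Gm R
  have : IsAffine (ThetaS.STSch R π).left := isAffine_Spec _
  have : IsAffine (Spec (CommRingCat.of R)) := isAffine_Spec _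
  exact uniquelyFills_two hf (ThetaS.stFn (ThetaS.sFn R π)) (ThetaS.stFn (ThetaS.tFn R π)) (fun A => Iff.rfl)
    (inv_regular (Scheme.ΓSpecIso _) fun x hx => eq_zero_of_s_mul hπ.ne_zero hx)
    (inv_regular (Scheme.ΓSpecIso _) fun x hx => eq_zero_of_t_mul hπ.ne_zero hx)
    (inv_dvd (Scheme.ΓSpecIso _) fun x hx => dvd_of_t_mul hπ.prime hx)
    (fun q => (act_mem_iff q).1) (fun q => (act_mem_iff q).2) sq

end Groth.Agent.ThetaL
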