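import Groth.Agent.ThetaL.Apply
import Groth.Agent.AlgStLib.SepUnivClosed
import Groth.Agent.FibBase.Fp
import Groth.Agent.FibBase.FpMaps
import Mathlib.AlgebraicGeometry.Morphisms.ClosedImmersion
import Mathlib.Algebra.Polynomial.Laurent

/-!
# Uniqueness of extensions of filtrations for representable separated morphisms
-/

set_option autoImplicit false
set_option backward.isDefEq.respectTransparency false
set_option backward.isDefEq.respectTransparency.types false

universe u

open CategoryTheory CategoryTheory.Functor CategoryTheory.Limits MonoidalCategory CartesianMonoidalCategory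
  AlgebraicGeometry AlgSp

namespace Groth.Agent.ThetaL

open Groth.Agent.FibBase Groth.Agent.AlgStLib Groth.Agent.QuotLib

variable {S : Scheme.{u}} {𝒳 𝒴 : AlgSt.Cat S} {f : 𝒳 ⥤ᵇ 𝒴}

theorem repByAlgSpWith_diag_closed (hrep : AlgSt.RepByAlgSp1 f) (hsep : AlgSt.IsSeparatedMor f) :
    AlgSt.RepByAlgSpWith (AlgSp.RepWith @IsClosedImmersion) (FibCat.diag f) := by
  have h₂ : AlgSt.RepByAlgSpWith IsUnivClosedMor (FibCat.diag f) :=
    repByAlgSpWith_mono_space (fun _ _ _ ha => ha.2.2) hsep
  have hs : AlgSt.RepByAlgSpWith AlgSp.IsSeparatedMor f :=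
    (repByAlgSpWith_diag_iff_of_rep stableBC_isUnivClosedMor stableBC_isSeparatedMor
      (fun hF hG _ ha => property_of_repBySpWith (AlgStLib.isLocalOnBase_fppf_of_fpqc
        Groth.Agent.AlgSpLib.isLocalOnBase_fpqc_isUnivClosedMor) hF hG ha)
      (fun hF hG a => isUnivClosedMor_diagonal_iff hF hG a) hrep).1 h₂
  refine repByAlgSpWith_diag_of_repByAlgSp1 stableBC_of hrep fun a hF y e he ha => ?_
  rw [← ha]
  exact (RepOver.property_of_stableBC stableBC_isSeparatedMor (hs _ y) e he).2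

theorem line_inj (R : Type u) [CommRing R] :
    Function.Injective (ThetaS.linePt (R := R) (A := ThetaS.Lau R) (ThetaS.zPow R 1)) := by
  have h : ∀ (p : Polynomial R) (n : ℕ),
      (ThetaS.linePt (R := R) (A := ThetaS.Lau R) (ThetaS.zPow R 1) p).coeff (Multiplicative.ofAdd (n : ℤ)) = p.coeff n := by
    classical
    intro p n
    induction p using Polynomial.induction_on' with
    | add p q hp hq => simp [_root_.map_add, hp, hq]
    | monomial m c =>
      rw [Polynomial.aeval_monomial, MonoidAlgebra.single_pow, one_pow, ← Algebra.smul_def, MonoidAlgebra.smul_single,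
        MonoidAlgebra.coeff_single, Finsupp.single_apply, Polynomial.coeff_monomial, smul_eq_mul, mul_one]
      have e : (Multiplicative.ofAdd (1 : ℤ)) ^ m = Multiplicative.ofAdd (m : ℤ) := by
        rw [← ofAdd_nsmul]; simp
      rw [e]
      simp
  intro p q e
  ext n
  rw [← h p n, ← h q n, e]

variable {R : Type u} [CommRing R] {h : Spec (CommRingCat.of R) ⟶ S}

local notation "K₀" => Scheme.fppfPrecoverage

variable [FibCat.IsFibGrpd 𝒳.p] [FibCat.IsFibGrpd 𝒴.p] [f.toFunctor.Faithful]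

/-- Squares against the point `1` have at most one filling for representable separated morphisms. -/
theorem uniqLift_thetaOne (hrep : AlgSt.RepByAlgSp1 f) (hsep : AlgSt.IsSeparatedMor f)
    (sq : LiftSq.Sq (ThetaS.thetaOne K₀ R h) f) : sq.UniqLift := by
  have := flat_Gm R
  have hfp : Algebra.FinitePresentation R (ThetaS.Lau R) := by
    haveI : Algebra.FinitePresentation ℤ (MonoidAlgebra ℤ (Multiplicative ℤ)) :=
      Algebra.FinitePresentation.of_finiteType.mp inferInstance
    exact Algebra.FinitePresentation.equiv (MonoidAlgebra.scalarTensorEquiv ℤ R (M := Multiplicative ℤ))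
  have : LocallyOfFinitePresentation (ThetaS.Gm R).hom :=
    (HasRingHomProperty.Spec_iff (P := @LocallyOfFinitePresentation)).mpr
      (RingHom.finitePresentation_algebraMap.mpr hfp)
  refine uniqLift_of_isOver fun d d' A => ?_
  let P : ThetaS.Theta K₀ R h ⥤ᵇ FibCat.fp f f := FibCat.fpLift d.fn d'.fn (d.isoBot.symm ≪≫ d'.isoBot)
  have : FibCat.IsFibGrpd (FibCat.fp f f).p := fp_isFibGrpd inferInstance inferInstance inferInstance
  have hδ : AlgSt.RepByAlgSpWith (AlgSp.RepWith @IsClosedImmersion) (FibCat.diag f) :=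
    repByAlgSpWith_diag_closed hrep hsep
  suffices hne : Nonempty (Fill (FibCat.diag f) P A) by
    obtain ⟨ℓ⟩ := hne
    obtain ⟨a, -⟩ := Quotient.exists_rep ℓ
    have w : f.map a.α.hom.hom.fst ≫ 𝟙 _ =
        ((isoApp d.isoBot A).inv ≫ (isoApp d'.isoBot A).hom) ≫ f.map a.α.hom.hom.snd := a.α.hom.hom.w
    rw [Category.comp_id, Category.assoc] at w
    refine ⟨a.α.hom.hom.fst ≫ a.α.inv.hom.snd, ?_⟩
    have e : f.map a.α.hom.hom.snd ≫ f.map a.α.inv.hom.snd = 𝟙 _ := by
      rw [← f.toFunctor.map_comp]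
      exact (congrArg (fun t => f.map t.hom.snd) a.α.hom_inv_id).trans (f.toFunctor.map_id _)
    show sq.bot.map (𝟙 A) ≫ (isoApp d'.isoBot A).hom = (isoApp d.isoBot A).hom ≫ f.map (_ ≫ _)
    rw [sq.bot.toFunctor.map_id, f.toFunctor.map_comp, w, Category.assoc, Category.assoc, e]
    exact (Category.id_comp _).trans (((Iso.hom_inv_id_assoc _ _).trans (Category.comp_id _)).symm)
  -- the filling at the value of the point
  have htop : ∀ B, Nonempty (Fill (FibCat.diag f) P ((ThetaS.thetaOne K₀ R h).obj B)) := fun B => by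
    let A' := (ThetaS.thetaOne K₀ R h).obj B
    let ψ : d.fn.obj A' ≅ d'.fn.obj A' := isoApp d.isoTop B ≪≫ (isoApp d'.isoTop B).symm
    have hψ : (isoApp d.isoBot A').hom ≫ f.map ψ.hom = (isoApp d'.isoBot A').hom := by
      have e₁ : (isoApp d.isoBot A').hom ≫ f.map (isoApp d.isoTop B).hom = _ := liftPre_top d B
      have e₂ : (isoApp d'.isoBot A').hom ≫ f.map (isoApp d'.isoTop B).hom = _ := liftPre_top d' B
      show _ ≫ f.map ((isoApp d.isoTop B).hom ≫ (isoApp d'.isoTop B).inv) = _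
      rw [f.toFunctor.map_comp, reassoc_of% e₁, ← e₂, Category.assoc, ← f.toFunctor.map_comp]
      exact (congrArg (fun t => _ ≫ f.map t) (Iso.hom_inv_id _)).trans
        ((congrArg (fun t => _ ≫ t) (f.toFunctor.map_id _)).trans (Category.comp_id _))
    let α : P.obj A' ≅ (FibCat.diag f).obj (d.fn.obj A') := fpIsoMk (Iso.refl _) ψ.symm (by
      show f.map (𝟙 _) ≫ 𝟙 _ = ((isoApp d.isoBot A').inv ≫ (isoApp d'.isoBot A').hom) ≫ f.map ψ.inv
      rw [f.toFunctor.map_id, Category.comp_id, ← hψ, Category.assoc, Category.assoc, ← f.toFunctor.map_comp,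
        ψ.hom_inv_id]
      exact ((congrArg (fun t => _ ≫ _ ≫ t) (f.toFunctor.map_id _)).trans
        ((congrArg (fun t => _ ≫ t) (Category.comp_id _)).trans (Iso.inv_hom_id _))).symm)
    have : 𝒳.p.IsHomLift (𝟙 ((ThetaS.Theta K₀ R h).p.obj A')) (Iso.refl (d.fn.obj A')).hom :=
      IsHomLift.id (d.fn.w_obj A')
    exact ⟨⟦{ x := d.fn.obj A', α := α, hα := fpIsoMk_lift _ _ _ (h := this) }⟧⟩
  -- the universal trivial torsor
  let one : FibCat.selfOver (Over (Spec (CommRingCat.of R))) ⥤ᵇ ThetaS.ThetaR K₀ R :=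
    BasedFunctor.comp (ThetaS.secPt (ThetaS.onePt R) (ThetaS.onePt_hom R))
      (AlgSt.quotMap K₀ (ThetaS.Gm R) (ThetaS.lineAction R))
  let T₀ : Over (Spec (CommRingCat.of R)) := CoactBr.sp R R
  let A₁ : (ThetaS.ThetaR K₀ R).obj := one.obj T₀
  let p : ThetaS.Gm R ⟶ ThetaS.Line R := CoactBr.pt (ThetaS.linePt (ThetaS.zPow R 1))
  let b : ThetaS.Gm R ⟶ A₁.P :=
    lift (CoactBr.pt (AlgHom.id R (ThetaS.Lau R))) (CoactBr.pt (Algebra.ofId R (ThetaS.Lau R)))
  have hb : b ≫ A₁.φ = p := by
    have e : CoactBr.pt (Algebra.ofId R (ThetaS.Lau R)) ≫ (Over.homMk (T₀.hom ≫ ThetaS.onePt R)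
        (by rw [Category.assoc, ThetaS.onePt_hom, Category.comp_id]) : T₀ ⟶ ThetaS.Line R) =
        CoactBr.pt (ThetaS.linePt (1 : ThetaS.Lau R)) := by
      apply Over.OverMorphism.ext
      show Spec.map (CommRingCat.ofHom (Algebra.ofId R (ThetaS.Lau R)).toRingHom) ≫ T₀.hom ≫ ThetaS.onePt R = _
      refine (congrArg (fun t => _ ≫ t) ((congrArg (fun t => t ≫ ThetaS.onePt R) (ThetaS.sp_self_hom R)).trans
        (Category.id_comp _))).trans ?_
      rw [ThetaS.onePt, CoactBr.pt_left, CoactBr.pt_left, ← Spec.map_comp, ← CommRingCat.ofHom_comp]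
      congr 2
      refine Polynomial.ringHom_ext (fun r => ?_) ?_ <;> simp [ThetaS.linePt, ThetaS.lineOne, MonoidAlgebra.one_def]
    show b ≫ (ThetaS.Gm R ◁ _) ≫ (ThetaS.lineAction R).act = p
    rw [lift_whiskerLeft_assoc]
    refine Eq.trans ?_ ((ThetaS.lineAction_pt (AlgHom.id R (ThetaS.Lau R)) 1).trans
      (congrArg (fun a => CoactBr.pt (ThetaS.linePt a)) (mul_one _)))
    exact congrArg (fun t => lift _ t ≫ _) e
  let ℬ := ThetaS.Theta K₀ R h
  let q₁ : ℬ.obj := triv K₀ (ThetaS.Gm R) (ThetaS.lineAction R) p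
  obtain ⟨ℓ₁⟩ := htop T₀
  let ℓq : Fill (FibCat.diag f) P q₁ := res (ℬ := ℬ) (trivHom A₁ b p hb) ℓ₁
  let A₀ : ℬ.obj := triv K₀ (ThetaS.Gm R) (ThetaS.lineAction R) (𝟙 (ThetaS.Line R))
  have hle : (@IsClosedImmersion : MorphismProperty Scheme.{u}) ≤ @IsAffineHom := fun _ _ g hg =>
    have : IsClosedImmersion g := hg
    inferInstance
  have hA₀ : Nonempty (Fill (FibCat.diag f) P A₀) := by
    obtain ⟨c, hc⟩ := exists_chart_with (bot := P) hle hδ A₀
    have : IsClosedImmersion c.π := hc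
    let m : q₁ ⟶ A₀ := cP p
    have hmb : m.base = p := trivHom_triv_base p p _
    have hm : (ℬ.p.map m).left = p.left := congrArg CommaMorphism.left hmb
    have : IsAffine (ℬ.p.obj A₀).left := isAffine_Spec _
    have := isAffine_V c
    have hfac := c.pt_π m ℓq
    rw [hm] at hfac
    have hinj : Function.Injective c.π.appTop := fun x y e => by
      have hp : Function.Injective p.left.appTop := by
        have hs : (Scheme.ΓSpecIso (CommRingCat.of (Polynomial R))).inv ≫ p.left.appTop =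
            CommRingCat.ofHom (ThetaS.linePt (ThetaS.zPow R 1)).toRingHom ≫
              (Scheme.ΓSpecIso (CommRingCat.of (ThetaS.Lau R))).inv := by
          rw [CoactBr.pt_left]
          exact (Scheme.ΓSpecIso_inv_naturality _).symm
        intro x y e
        obtain ⟨a, rfl⟩ := (ConcreteCategory.bijective_of_isIso (Scheme.ΓSpecIso (CommRingCat.of (Polynomial R))).inv).2 x
        obtain ⟨a', rfl⟩ := (ConcreteCategory.bijective_of_isIso (Scheme.ΓSpecIso (CommRingCat.of (Polynomial R))).inv).2 y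
        refine congrArg _ (line_inj R ((ConcreteCategory.bijective_of_isIso
          (Scheme.ΓSpecIso (CommRingCat.of (ThetaS.Lau R))).inv).1 ?_))
        exact (DFunLike.congr_fun (congrArg (fun t => t.hom) hs) a).symm.trans
          (e.trans (DFunLike.congr_fun (congrArg (fun t => t.hom) hs) a'))
      refine hp ?_
      rw [← hfac]
      exact congrArg (fun z => (c.pt m ℓq).appTop z) e
    have hsurj : Function.Surjective c.π.appTop :=
      (IsClosedImmersion.isAffine_surjective_of_isAffine (f := c.π)).2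
    have : IsIso c.π.appTop := (ConcreteCategory.isIso_iff_bijective _).2 ⟨hinj, hsurj⟩
    have : IsIso c.π := (HasAffineProperty.iff_of_isAffine (P := MorphismProperty.isomorphisms Scheme.{u})).2
      ⟨inferInstance, inferInstance⟩
    obtain ⟨ℓ, -⟩ := c.pt_surj (𝟙 A₀) (inv c.π) (by
      rw [IsIso.inv_hom_id, ℬ.p.map_id, Over.id_left])
    exact ⟨ℓ⟩
  -- descent
  obtain ⟨c, hc⟩ := exists_chart_with (bot := P) hle hδ A
  have : IsClosedImmersion c.π := hc
  let qA : ℬ.obj := triv K₀ (ThetaS.Gm R) (ThetaS.lineAction R) A.φ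
  let ψ : qA ⟶ A := trivHom A (𝟙 _) A.φ (Category.id_comp _)
  let g' := c.pt ψ (res (ℬ := ℬ) (cP A.φ : qA ⟶ A₀) hA₀.some)
  have hψ : (ℬ.p.map ψ).left = A.π.left := congrArg CommaMorphism.left (Category.id_comp A.π)
  have hg' : g' ≫ c.π = A.π.left := (c.pt_π ψ _).trans hψ
  have := effectiveEpi_π (G := ThetaS.Gm R) A
  let g : (ℬ.p.obj A).left ⟶ c.V := EffectiveEpi.desc A.π.left g' fun g₁ g₂ e => by
    rw [← cancel_mono c.π, Category.assoc, Category.assoc, hg', e]
  obtain ⟨ℓ, -⟩ := c.pt_surj (𝟙 A) g (by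
    rw [← cancel_epi A.π.left]
    exact ((Category.assoc _ _ _).symm.trans (congrArg (fun t => t ≫ c.π) (EffectiveEpi.fac _ _ _))).trans
      (hg'.trans ((congrArg (fun t => A.π.left ≫ t) (by rw [ℬ.p.map_id, Over.id_left]; rfl)).trans (Category.comp_id _)).symm))
  exact ⟨ℓ⟩

end Groth.Agent.ThetaL
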