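import Groth.Agent.ThetaL.Apply
import Groth.Agent.AlgStLib.Stack

/-!
# Composing filling properties
-/

set_option autoImplicit false
set_option backward.isDefEq.respectTransparency false
set_option backward.isDefEq.respectTransparency.types false

universe u

open CategoryTheory CategoryTheory.Functor CategoryTheory.Limits AlgebraicGeometry

namespace Groth.Agent.ThetaL

open Groth.Agent.FibBase Groth.Agent.AlgStLib

variable {S : Scheme.{u}} {𝒜 ℬ 𝒳 𝒴 : AlgSt.Cat S} {j : 𝒜 ⥤ᵇ ℬ} {f : 𝒳 ⥤ᵇ 𝒴}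

theorem self_key {𝒞 : AlgSt.Cat S} {G H : 𝒞 ⥤ᵇ (FibCat.selfOver (Over S) : AlgSt.Cat S)} (α β : G ⟶ H) : α = β :=
  BasedNatTrans.ext _ _ (by
    ext x
    exact (self_hom_eq (BasedNatTrans.isHomLift α (a := x) rfl)).trans
      (self_hom_eq (BasedNatTrans.isHomLift β (a := x) rfl)).symm)

/-- If squares against `f` and against the structure functor of the target fill uniquely, so do squares against that
of the source. -/
theorem liftsUniquely_toSelf (hf : LiftSq.LiftsUniquely j f) (hY : LiftSq.LiftsUniquely j (FibCat.toSelf 𝒴)) :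
    LiftSq.LiftsUniquely j (FibCat.toSelf 𝒳) := by
  intro sq
  let sqY : LiftSq.Sq j (FibCat.toSelf 𝒴) :=
    { top := BasedFunctor.comp sq.top f
      bot := sq.bot
      iso := eqToIso ((eq_toSelf _).trans (eq_toSelf _).symm) }
  obtain ⟨⟨dY⟩, hYu⟩ := hY sqY
  obtain ⟨⟨dX⟩, -⟩ := hf { top := sq.top, bot := dY.fn, iso := dY.isoTop }
  refine ⟨⟨{ fn := dX.fn, isoTop := dX.isoTop, isoBot := eqToIso ((eq_toSelf _).trans (eq_toSelf _).symm),
             w := self_key _ _ }⟩, fun d d' => ?_⟩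
  let push : sq.Lift → sqY.Lift := fun e =>
    { fn := BasedFunctor.comp e.fn f
      isoTop := whiskerRightIso e.isoTop f
      isoBot := eqToIso ((eq_toSelf _).trans (eq_toSelf _).symm)
      w := self_key _ _ }
  obtain ⟨η⟩ := hYu (push d) (push d')
  obtain ⟨η'⟩ := hYu (push d') (push d)
  obtain ⟨u₁⟩ := hYu (push d) (push d)
  obtain ⟨u₂⟩ := hYu (push d') (push d')
  let I : BasedFunctor.comp d.fn f ≅ BasedFunctor.comp d'.fn f :=
    { hom := η.default.hom
      inv := η'.default.hom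
      hom_inv_id := congrArg LiftSq.Sq.Lift.Hom.hom
        ((u₁.uniq (η.default ≫ η'.default)).trans (u₁.uniq (𝟙 (push d))).symm)
      inv_hom_id := congrArg LiftSq.Sq.Lift.Hom.hom
        ((u₂.uniq (η'.default ≫ η.default)).trans (u₂.uniq (𝟙 (push d'))).symm) }
  let sqX : LiftSq.Sq j f := { top := sq.top, bot := BasedFunctor.comp d.fn f, iso := whiskerRightIso d.isoTop f }
  let L₁ : sqX.Lift :=
    { fn := d.fn, isoTop := d.isoTop, isoBot := Iso.refl _
      w := by
        refine (congrArg (fun t => t ≫ _) (LiftSq.whiskerLeft_id' j (BasedFunctor.comp d.fn f))).trans ?_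
        exact (Category.id_comp _).trans (by ext a; rfl) }
  let L₂ : sqX.Lift :=
    { fn := d'.fn, isoTop := d'.isoTop, isoBot := I
      w := Eq.trans (by ext a; rfl) (η.default.w_top : _ = (whiskerRightIso d.isoTop f).hom) }
  obtain ⟨θ⟩ := (hf sqX).2 L₁ L₂
  refine ⟨{ default := ⟨θ.default.hom, θ.default.w_top, self_key _ _⟩, uniq := fun σ => ?_ }⟩
  apply LiftSq.Sq.Lift.hom_ext
  have hσ : BasedCategory.whiskerRight σ.hom f = η.default.hom :=
    congrArg LiftSq.Sq.Lift.Hom.hom (η.uniq (⟨BasedCategory.whiskerRight σ.hom f, by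
      ext a
      show f.map (σ.hom.toNatTrans.app (j.obj a)) ≫ f.map (d'.isoTop.hom.toNatTrans.app a) =
        f.map (d.isoTop.hom.toNatTrans.app a)
      rw [← f.toFunctor.map_comp]
      exact congrArg f.map (congrArg (fun t : BasedFunctor.comp j d.fn ⟶ sq.top => t.toNatTrans.app a) σ.w_top),
      self_key _ _⟩ : push d ⟶ push d'))
  have h := congrArg LiftSq.Sq.Lift.Hom.hom (θ.uniq (⟨σ.hom, σ.w_top, (Category.id_comp _).trans hσ⟩ : L₁ ⟶ L₂))
  exact h

end Groth.Agent.ThetaL
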