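import Groth.Agent.ThetaL.FillSp
import Mathlib.AlgebraicGeometry.AffineScheme
import Mathlib.AlgebraicGeometry.Sites.Fpqc

/-!
# Extension over scheme-theoretically dense opens and descent of fillings
-/

set_option autoImplicit false
set_option backward.isDefEq.respectTransparency false
set_option backward.isDefEq.respectTransparency.types false

universe v₃ u₃ u

open CategoryTheory CategoryTheory.Functor CategoryTheory.Limits AlgebraicGeometry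

namespace Groth.Agent.ThetaL

variable {S : Scheme.{u}} {𝒳 𝒴 : AlgSt.Cat S} {ℬ : BasedCategory.{v₃, u₃} (Over S)}
variable [FibCat.IsFibGrpd 𝒳.p] [FibCat.IsFibGrpd 𝒴.p] {f : 𝒳 ⥤ᵇ 𝒴} {bot : ℬ ⥤ᵇ 𝒴}

theorem pt_res_id {A B : ℬ.obj} (c : Chart f bot A) (n : B ⟶ A) (ℓ : Fill f bot A) :
    c.pt n (res n ℓ) = (ℬ.p.map n).left ≫ c.pt (𝟙 A) ℓ := by
  rw [← c.pt_res n (𝟙 A) ℓ, Category.comp_id]

theorem isAffine_V {A : ℬ.obj} (c : Chart f bot A) [IsAffine (ℬ.p.obj A).left] : IsAffine c.V := by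
  have := c.aff
  exact isAffine_of_isAffineHom c.π

/-- Restriction is injective when global functions restrict injectively to an affine base. -/
theorem res_injective_of_gamma (hf : AlgSt.RepByAlgSpWith (AlgSp.RepWith @IsAffineHom) f) {A B : ℬ.obj} (n : B ⟶ A)
    [IsAffine (ℬ.p.obj A).left] (h : Function.Injective (ℬ.p.map n).left.appTop) :
    Function.Injective (res (f := f) (bot := bot) n) := by
  obtain ⟨c⟩ := exists_chart (bot := bot) hf A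
  have := isAffine_V c
  intro ℓ ℓ' e
  refine c.pt_inj (𝟙 A) (ext_of_isAffine (CommRingCat.hom_ext (RingHom.ext fun x => h ?_)))
  have e' : (ℬ.p.map n).left ≫ c.pt (𝟙 A) ℓ = (ℬ.p.map n).left ≫ c.pt (𝟙 A) ℓ' := by
    rw [← pt_res_id, ← pt_res_id, e]
  exact congrArg (fun q : (ℬ.p.obj B).left ⟶ c.V => q.appTop x) e'

/-- Restriction is bijective when global functions restrict bijectively to an affine base. -/
theorem res_bijective_of_gamma (hf : AlgSt.RepByAlgSpWith (AlgSp.RepWith @IsAffineHom) f) {A B : ℬ.obj} (n : B ⟶ A)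
    [IsAffine (ℬ.p.obj A).left] (h : Function.Bijective (ℬ.p.map n).left.appTop) :
    Function.Bijective (res (f := f) (bot := bot) n) := by
  refine ⟨res_injective_of_gamma hf n h.1, fun ℓB => ?_⟩
  obtain ⟨c⟩ := exists_chart (bot := bot) hf A
  have := isAffine_V c
  have : IsIso (ℬ.p.map n).left.appTop := (ConcreteCategory.isIso_iff_bijective _).2 h
  let g : (ℬ.p.obj A).left ⟶ c.V :=
    (ℬ.p.obj A).left.toSpecΓ ≫ Spec.map ((c.pt n ℓB).appTop ≫ inv (ℬ.p.map n).left.appTop) ≫ c.V.isoSpec.inv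
  have hg : (ℬ.p.map n).left ≫ g = c.pt n ℓB := by
    simp only [g]
    rw [Scheme.toSpecΓ_naturality_assoc, ← Spec.map_comp_assoc, Category.assoc, IsIso.inv_hom_id, Category.comp_id,
      ← Scheme.toSpecΓ_naturality_assoc]
    exact (congrArg (fun w => c.pt n ℓB ≫ w) c.V.isoSpec.hom_inv_id).trans (Category.comp_id _)
  have hgπ : g ≫ c.π = (ℬ.p.map (𝟙 A)).left := by
    refine ext_of_isAffine (CommRingCat.hom_ext (RingHom.ext fun x => h.1 ?_))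
    have e' : (ℬ.p.map n).left ≫ g ≫ c.π = (ℬ.p.map n).left ≫ (ℬ.p.map (𝟙 A)).left := by
      rw [reassoc_of% hg, c.pt_π, ← Over.comp_left, ← ℬ.p.map_comp, Category.comp_id]
    exact congrArg (fun q : (ℬ.p.obj B).left ⟶ (ℬ.p.obj A).left => q.appTop x) e'
  obtain ⟨ℓ, hℓ⟩ := c.pt_surj (𝟙 A) g hgπ
  exact ⟨ℓ, c.pt_inj n (by rw [pt_res_id, hℓ, hg])⟩

/-- Fillings descend along effective epimorphisms of bases. -/
theorem existsUnique_descend (hf : AlgSt.RepByAlgSpWith (AlgSp.RepWith @IsAffineHom) f) {A B D : ℬ.obj} (ψ : B ⟶ A)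
    [EffectiveEpi (ℬ.p.map ψ).left] (n₁ n₂ : D ⟶ B) (hn : n₁ ≫ ψ = n₂ ≫ ψ)
    (hpb : IsPullback (ℬ.p.map n₁).left (ℬ.p.map n₂).left (ℬ.p.map ψ).left (ℬ.p.map ψ).left)
    (ℓ' : Fill f bot B) (h : res n₁ ℓ' = res n₂ ℓ') : ∃! ℓ : Fill f bot A, res ψ ℓ = ℓ' := by
  obtain ⟨c⟩ := exists_chart (bot := bot) hf A
  have h' : (ℬ.p.map n₁).left ≫ c.pt ψ ℓ' = (ℬ.p.map n₂).left ≫ c.pt ψ ℓ' := by
    rw [← c.pt_res, ← c.pt_res, hn, h]
  have hh : ∀ {Z : Scheme.{u}} (g₁ g₂ : Z ⟶ (ℬ.p.obj B).left),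
      g₁ ≫ (ℬ.p.map ψ).left = g₂ ≫ (ℬ.p.map ψ).left → g₁ ≫ c.pt ψ ℓ' = g₂ ≫ c.pt ψ ℓ' := fun g₁ g₂ e => by
    rw [← hpb.lift_fst g₁ g₂ e, Category.assoc, h', hpb.lift_snd_assoc]
  let g : (ℬ.p.obj A).left ⟶ c.V := EffectiveEpi.desc (ℬ.p.map ψ).left (c.pt ψ ℓ') hh
  have hg : (ℬ.p.map ψ).left ≫ g = c.pt ψ ℓ' := EffectiveEpi.fac _ _ _
  have hgπ : g ≫ c.π = (ℬ.p.map (𝟙 A)).left := by
    rw [← cancel_epi (ℬ.p.map ψ).left, reassoc_of% hg, c.pt_π, ← Over.comp_left, ← ℬ.p.map_comp, Category.comp_id]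
  obtain ⟨ℓ, hℓ⟩ := c.pt_surj (𝟙 A) g hgπ
  refine ⟨ℓ, c.pt_inj ψ (by rw [pt_res_id, hℓ, hg]), fun ℓ₂ h₂ => c.pt_inj (𝟙 A) ?_⟩
  rw [← cancel_epi (ℬ.p.map ψ).left, ← pt_res_id, h₂, hℓ, hg]

end Groth.Agent.ThetaL
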