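import Groth.Agent.ThetaL.ChartCor
import Groth.Agent.QuotLib.Descend
import Groth.Prelude.Def_ThetaS

/-!
# Filling squares against an open substack of an affine quotient stack
-/

set_option autoImplicit false
set_option backward.isDefEq.respectTransparency false
set_option backward.isDefEq.respectTransparency.types false

universe u

open CategoryTheory CategoryTheory.Functor CategoryTheory.Limits MonoidalCategory CartesianMonoidalCategory
  AlgebraicGeometry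

namespace Groth.Agent.ThetaL

open Groth.Agent.QuotLib

variable {S S' : Scheme.{u}} {h : S' ⟶ S} {G X : Over S'} [GrpObj G] {aX : AlgGrp.Action G X}
variable {𝒳 𝒴 : AlgSt.Cat S} {f : 𝒳 ⥤ᵇ 𝒴}

local notation "K₀" => Scheme.fppfPrecoverage

/-- The map from the trivial torsor of a point to the universal trivial torsor. -/
noncomputable abbrev cP {T : Over S'} (p : T ⟶ X) : triv K₀ G aX p ⟶ triv K₀ G aX (𝟙 X) :=
  trivHom (triv K₀ G aX (𝟙 X)) (p ≫ sec G X) p (by rw [Category.assoc, sec_φ, Category.comp_id])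

theorem trivHom_triv_base {T T' : Over S'} {x' : T' ⟶ X} (b : T ⟶ T') (x : T ⟶ X)
    (hx : (b ≫ sec G T') ≫ (triv K₀ G aX x').φ = x) :
    (trivHom (triv K₀ G aX x') (b ≫ sec G T') x hx).base = b := by
  show (b ≫ sec G T') ≫ snd G T' = b
  rw [sec, Category.assoc, lift_snd, Category.comp_id]

theorem effectiveEpi_π [Flat G.hom] [LocallyOfFinitePresentation G.hom] (A : (AlgSt.QuotObj K₀ G aX)) :
    EffectiveEpi A.π.left := by
  obtain ⟨⟨hs, hfl⟩, hp⟩ := fppf_π A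
  have : Surjective A.π.left := hs
  have : Flat A.π.left := hfl
  have : LocallyOfFinitePresentation A.π.left := hp
  infer_instance

section

variable (Q : (AlgSt.QuotObj K₀ G aX) → Prop)

variable {Q} (sq : LiftSq.Sq (AlgSt.subIncl (ThetaS.overS h (AlgSt.QuotSt K₀ G aX)) Q) f)
variable [FibCat.IsFibGrpd 𝒳.p] [FibCat.IsFibGrpd 𝒴.p]

/-- The given family at an object of the open substack. -/
noncomputable def given {A : (AlgSt.QuotObj K₀ G aX)} (hA : Q A) : Fill f sq.bot A := topFill sq ⟨A, hA⟩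

theorem res_given {A A' : (AlgSt.QuotObj K₀ G aX)} (hA : Q A) (hA' : Q A') (m : A' ⟶ A) :
    res (ℬ := ThetaS.overS h (AlgSt.QuotSt K₀ G aX)) m (given sq hA) = given sq hA' :=
  res_topFill sq (B := ⟨A, hA⟩) (B' := ⟨A', hA'⟩) (ObjectProperty.homMk m)

variable [f.toFunctor.Faithful]

/-- Squares against the open substack cut out by `U` fill uniquely when `U` is schematically dense with all functions. -/
theorem uniquelyFills_of_open [Flat G.hom] [LocallyOfFinitePresentation G.hom]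
    (hf : AlgSt.RepByAlgSpWith (AlgSp.RepWith @IsAffineHom) f) [IsAffine X.left] [IsAffine (G ⊗ X).left]
    (U : Over S') (jU : U ⟶ X) (hQ : ∀ A : (AlgSt.QuotObj K₀ G aX), Q A ↔ ∃ k : A.P ⟶ U, k ≫ jU = A.φ)
    (kst : G ⊗ U ⟶ U) (hst : kst ≫ jU = (G ◁ jU) ≫ aX.act)
    (hbij : Function.Bijective jU.left.appTop) (hinj : Function.Injective (G ◁ jU).left.appTop) :
    sq.UniquelyFills := by
  let A₀ : (AlgSt.QuotObj K₀ G aX) := triv K₀ G aX (𝟙 X)
  let qU : (AlgSt.QuotObj K₀ G aX) := triv K₀ G aX jU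
  have hqU : Q qU := (hQ qU).2 ⟨kst, hst⟩
  have hQmor : ∀ {A A' : (AlgSt.QuotObj K₀ G aX)}, Q A → (A' ⟶ A) → Q A' := fun {A A'} hA m => by
    obtain ⟨k, hk⟩ := (hQ A).1 hA
    exact (hQ A').2 ⟨m.top ≫ k, by rw [Category.assoc, hk]; exact m.wφ⟩
  let mU : qU ⟶ A₀ := cP jU
  have hmUb : mU.base = jU := trivHom_triv_base jU jU _
  -- the value at the universal point
  have hbij' : Function.Bijective (res (ℬ := ThetaS.overS h (AlgSt.QuotSt K₀ G aX)) (f := f) (bot := sq.bot) mU) := by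
    have : IsAffine ((ThetaS.overS h (AlgSt.QuotSt K₀ G aX)).p.obj A₀).left := ‹IsAffine X.left›
    refine res_bijective_of_gamma hf (ℬ := ThetaS.overS h (AlgSt.QuotSt K₀ G aX)) mU ?_
    show Function.Bijective mU.base.left.appTop
    rw [hmUb]; exact hbij
  obtain ⟨ℓ₀, hℓ₀⟩ := hbij'.2 (given sq hqU)
  have hfac : ∀ {A' : (AlgSt.QuotObj K₀ G aX)} (m : A' ⟶ A₀) (k : A'.base ⟶ U), k ≫ jU = m.base → ∀ hA' : Q A',
      res (ℬ := ThetaS.overS h (AlgSt.QuotSt K₀ G aX)) m ℓ₀ = given sq hA' := fun {A'} m k hk hA' => by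
    have e := homLift_comp mU m k (by rw [hmUb]; exact hk)
    rw [← e, res_comp (ℬ := ThetaS.overS h (AlgSt.QuotSt K₀ G aX)), hℓ₀]
    exact res_given sq hqU hA' _
  -- the universal comparison
  let x₀ : G ⊗ X ⟶ X := A₀.φ
  let q₁ : (AlgSt.QuotObj K₀ G aX) := triv K₀ G aX x₀
  let m₁ : q₁ ⟶ A₀ := trivHom A₀ (𝟙 _) x₀ (Category.id_comp _)
  have huniv : res (ℬ := ThetaS.overS h (AlgSt.QuotSt K₀ G aX)) m₁ ℓ₀ =
      res (ℬ := ThetaS.overS h (AlgSt.QuotSt K₀ G aX)) (cP x₀) ℓ₀ := by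
    let w : G ⊗ U ⟶ G ⊗ X := G ◁ jU
    let nW : triv K₀ G aX (w ≫ x₀) ⟶ q₁ :=
      trivHom q₁ (w ≫ sec G (G ⊗ X)) (w ≫ x₀) (by rw [Category.assoc, sec_φ])
    have hnW : nW.base = w := trivHom_triv_base w (w ≫ x₀) _
    have : IsAffine ((ThetaS.overS h (AlgSt.QuotSt K₀ G aX)).p.obj q₁).left := ‹IsAffine (G ⊗ X).left›
    refine res_injective_of_gamma hf (ℬ := ThetaS.overS h (AlgSt.QuotSt K₀ G aX)) nW ?_ ?_
    · show Function.Injective nW.base.left.appTop
      rw [hnW]; exact hinj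
    rw [← res_comp (ℬ := ThetaS.overS h (AlgSt.QuotSt K₀ G aX)),
      ← res_comp (ℬ := ThetaS.overS h (AlgSt.QuotSt K₀ G aX))]
    have e₁ : snd G U ≫ jU = (nW ≫ m₁).base := by
      show snd G U ≫ jU = nW.base ≫ 𝟙 _ ≫ snd G X
      rw [hnW, Category.id_comp]
      exact (whiskerLeft_snd G jU).symm
    have e₂ : kst ≫ jU = (nW ≫ cP x₀).base := by
      show kst ≫ jU = nW.base ≫ (cP x₀).base
      rw [hnW, hst, trivHom_triv_base]
      show (G ◁ jU) ≫ aX.act = (G ◁ jU) ≫ (G ◁ 𝟙 X) ≫ aX.act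
      rw [MonoidalCategory.whiskerLeft_id, Category.id_comp]
    have hW : Q (triv K₀ G aX (w ≫ x₀)) := hQmor hqU (homLift mU (nW ≫ m₁) (snd G U) (by rw [hmUb]; exact e₁))
    rw [hfac _ _ e₁ hW, hfac _ _ e₂ hW]
  have key : ∀ {T : Over S'} (p : T ⟶ X) (m : triv K₀ G aX p ⟶ A₀),
      res (ℬ := ThetaS.overS h (AlgSt.QuotSt K₀ G aX)) m ℓ₀ =
        res (ℬ := ThetaS.overS h (AlgSt.QuotSt K₀ G aX)) (cP p) ℓ₀ := fun {T} p m => by
    obtain ⟨hx, -⟩ := trivHom_hom m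
    let b : T ⟶ G ⊗ X := sec G T ≫ m.top
    let n : triv K₀ G aX p ⟶ q₁ :=
      trivHom q₁ (b ≫ sec G (G ⊗ X)) p (by rw [Category.assoc, sec_φ]; exact hx)
    have e₁ : n ≫ m₁ = m := hom_ext_sec (by
      rw [AlgSt.QuotObj.comp_top, ← Category.assoc, trivHom_sec, Category.assoc, trivHom_sec]
      exact Category.comp_id b)
    have e₂ : n ≫ cP x₀ = cP p := hom_ext_sec (by
      rw [AlgSt.QuotObj.comp_top, ← Category.assoc, trivHom_sec, Category.assoc, trivHom_sec, trivHom_sec,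
        ← Category.assoc]
      exact congrArg (fun z => z ≫ sec G X) hx)
    rw [← e₁, ← e₂, res_comp (ℬ := ThetaS.overS h (AlgSt.QuotSt K₀ G aX)),
      res_comp (ℬ := ThetaS.overS h (AlgSt.QuotSt K₀ G aX)), huniv]
  -- values at all objects
  let ψ : ∀ A : (AlgSt.QuotObj K₀ G aX), triv K₀ G aX A.φ ⟶ A := fun A => trivHom A (𝟙 _) A.φ (Category.id_comp _)
  have hex : ∀ A : (AlgSt.QuotObj K₀ G aX), ∃! ℓ : Fill f sq.bot A, res (ℬ := ThetaS.overS h (AlgSt.QuotSt K₀ G aX)) (ψ A) ℓ =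
      res (ℬ := ThetaS.overS h (AlgSt.QuotSt K₀ G aX)) (cP A.φ) ℓ₀ := fun A => by
    let n₁ : triv K₀ G aX (A.act.act ≫ A.φ) ⟶ triv K₀ G aX A.φ :=
      trivHom _ (A.act.act ≫ sec G A.P) (A.act.act ≫ A.φ) (by rw [Category.assoc, sec_φ])
    have hn₁ : n₁.base = A.act.act := trivHom_triv_base _ _ _
    let n₂ := homLift (ψ A) (n₁ ≫ ψ A) (snd G A.P) (by
      show snd G A.P ≫ 𝟙 _ ≫ A.π = n₁.base ≫ 𝟙 _ ≫ A.π
      rw [hn₁, Category.id_comp]
      exact A.cart.w.symm)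
    have hψ : (ψ A).base = A.π := Category.id_comp _
    have : EffectiveEpi ((ThetaS.overS h (AlgSt.QuotSt K₀ G aX)).p.map (ψ A)).left := by
      show EffectiveEpi (ψ A).base.left
      rw [hψ]; exact effectiveEpi_π A
    refine existsUnique_descend hf (ℬ := ThetaS.overS h (AlgSt.QuotSt K₀ G aX)) (ψ A) n₁ n₂
      (homLift_comp _ _ _ _).symm ?_ _ ?_
    · show IsPullback n₁.base.left (snd G A.P).left (ψ A).base.left (ψ A).base.left
      rw [hn₁, hψ]
      exact A.cart.map (Over.forget S')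
    · rw [← res_comp (ℬ := ThetaS.overS h (AlgSt.QuotSt K₀ G aX)),
        ← res_comp (ℬ := ThetaS.overS h (AlgSt.QuotSt K₀ G aX))]
      exact (key _ _).trans (key _ _).symm
  choose v hv hvu using hex
  have hvp : ∀ (A : (AlgSt.QuotObj K₀ G aX)) {T : Over S'} (p : T ⟶ X) (m : triv K₀ G aX p ⟶ A),
      res (ℬ := ThetaS.overS h (AlgSt.QuotSt K₀ G aX)) m (v A) =
        res (ℬ := ThetaS.overS h (AlgSt.QuotSt K₀ G aX)) (cP p) ℓ₀ := fun A T p m => by
    obtain ⟨hx, -⟩ := trivHom_hom m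
    let n : triv K₀ G aX p ⟶ triv K₀ G aX A.φ :=
      trivHom _ ((sec G T ≫ m.top) ≫ sec G A.P) p (by rw [Category.assoc, sec_φ]; exact hx)
    have e : n ≫ ψ A = m := hom_ext_sec (by
      rw [AlgSt.QuotObj.comp_top, ← Category.assoc, trivHom_sec, Category.assoc, trivHom_sec]
      exact Category.comp_id _)
    rw [← e, res_comp (ℬ := ThetaS.overS h (AlgSt.QuotSt K₀ G aX)), hv,
      ← res_comp (ℬ := ThetaS.overS h (AlgSt.QuotSt K₀ G aX)), key]
  have htop : ∀ (A : (AlgSt.QuotObj K₀ G aX)) (hA : Q A), v A = given sq hA := fun A hA => by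
    obtain ⟨k, hk⟩ := (hQ A).1 hA
    refine (hvu A _ ?_).symm
    show res (ℬ := ThetaS.overS h (AlgSt.QuotSt K₀ G aX)) (ψ A) (given sq hA) = _
    have hq : Q (triv K₀ G aX A.φ) := hQmor hA (ψ A)
    rw [res_given sq hA hq]
    exact (hfac (cP A.φ) k (hk.trans (trivHom_triv_base A.φ A.φ _).symm) hq).symm
  refine uniquelyFills_of_ext ⟨⟨v, fun {A B} m => ?_, fun B => htop B.obj B.property⟩⟩ fun s s' => ?_
  · refine hvu B _ ?_
    show res (ℬ := ThetaS.overS h (AlgSt.QuotSt K₀ G aX)) (ψ B) (res m (v A)) = _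
    rw [← res_comp (ℬ := ThetaS.overS h (AlgSt.QuotSt K₀ G aX))]
    exact hvp A B.φ _
  · have hs : ∀ (s : Ext sq) (A : (AlgSt.QuotObj K₀ G aX)), s.val A = v A := fun s A => by
      have h₀ : s.val A₀ = ℓ₀ := hbij'.1 (by rw [hℓ₀, s.comp mU]; exact s.top ⟨qU, hqU⟩)
      refine hvu A _ ?_
      show res (ℬ := ThetaS.overS h (AlgSt.QuotSt K₀ G aX)) (ψ A) (s.val A) = _
      rw [← h₀, s.comp, s.comp]
    exact fun A => (hs s A).trans (hs s' A).symm

end

end Groth.Agent.ThetaL
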