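import Groth.Prelude.Def_LiftSq
import Groth.Agent.FibBase.Basic

/-!
# Dotted arrows as compatible families of objects over the test category

For `f : 𝒳 ⥤ᵇ 𝒴` faithful between categories fibred in groupoids and `bot : ℬ ⥤ᵇ 𝒴`, the objects of `𝒳` over `bot A` up to
isomorphism form a functor on `ℬ`; dotted arrows of a square are its compatible families extending the given one.
-/

set_option autoImplicit false
set_option backward.isDefEq.respectTransparency false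
set_option backward.isDefEq.respectTransparency.types false

universe v₅ u₅ v₄ u₄ v₃ u₃ v₂ u₂ v u

open CategoryTheory CategoryTheory.Functor

namespace Groth.Agent.ThetaL

open Groth.Agent.FibBase

variable {C : Type u} [Category.{v} C] {ℬ : BasedCategory.{v₃, u₃} C}
  {𝒳 : BasedCategory.{v₄, u₄} C} {𝒴 : BasedCategory.{v₅, u₅} C}
variable (f : 𝒳 ⥤ᵇ 𝒴) (bot : ℬ ⥤ᵇ 𝒴)

/-- An object of `𝒳` over `bot A`. -/
structure Pre (A : ℬ.obj) where
  x : 𝒳.obj
  α : bot.obj A ≅ f.obj x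
  hα : 𝒴.p.IsHomLift (𝟙 (ℬ.p.obj A)) α.hom

variable {f bot}

theorem Pre.base {A : ℬ.obj} (a : Pre f bot A) : 𝒳.p.obj a.x = ℬ.p.obj A :=
  (f.w_obj a.x).symm.trans (have := a.hα; IsHomLift.codomain_eq 𝒴.p (𝟙 (ℬ.p.obj A)) a.α.hom)

/-- `b` lies over `a` along `m`. -/
def IsOver {A B : ℬ.obj} (m : B ⟶ A) (b : Pre f bot B) (a : Pre f bot A) : Prop :=
  ∃ φ : b.x ⟶ a.x, bot.map m ≫ a.α.hom = b.α.hom ≫ f.map φ

theorem lift_bot_comp {A B : ℬ.obj} (m : B ⟶ A) (a : Pre f bot A) :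
    𝒴.p.IsHomLift (ℬ.p.map m) (bot.map m ≫ a.α.hom) := by
  have := a.hα
  have : 𝒴.p.IsHomLift (ℬ.p.map m) (bot.map m) := bot.preserves_isHomLift _ m
  simpa using IsHomLift.comp 𝒴.p (ℬ.p.map m) (𝟙 (ℬ.p.obj A)) (bot.map m) a.α.hom

theorem lift_of_eq {A B : ℬ.obj} {m : B ⟶ A} {b : Pre f bot B} {a : Pre f bot A} {φ : b.x ⟶ a.x}
    (h : bot.map m ≫ a.α.hom = b.α.hom ≫ f.map φ) : 𝒳.p.IsHomLift (ℬ.p.map m) φ := by
  have := b.hα
  have := lift_bot_comp m a
  have : 𝒴.p.IsHomLift (𝟙 (ℬ.p.obj B)) b.α.inv := IsHomLift.lift_id_inv 𝒴.p _ b.α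
  have e : f.map φ = b.α.inv ≫ bot.map m ≫ a.α.hom := by rw [h, Iso.inv_hom_id_assoc]
  refine (f.isHomLift_iff (ℬ.p.map m) φ).1 ?_
  rw [e]
  simpa using IsHomLift.comp 𝒴.p (𝟙 (ℬ.p.obj B)) (ℬ.p.map m) b.α.inv (bot.map m ≫ a.α.hom)

theorem IsOver.id {A : ℬ.obj} (a : Pre f bot A) : IsOver (𝟙 A) a a :=
  ⟨𝟙 a.x, by rw [f.toFunctor.map_id, bot.toFunctor.map_id, Category.id_comp, Category.comp_id]⟩

theorem IsOver.comp {A B D : ℬ.obj} {n : D ⟶ B} {m : B ⟶ A} {d : Pre f bot D} {b : Pre f bot B} {a : Pre f bot A}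
    (h₁ : IsOver n d b) (h₂ : IsOver m b a) : IsOver (n ≫ m) d a := by
  obtain ⟨φ, hφ⟩ := h₁
  obtain ⟨ψ, hψ⟩ := h₂
  exact ⟨φ ≫ ψ, by rw [bot.toFunctor.map_comp, Category.assoc, hψ, reassoc_of% hφ, f.toFunctor.map_comp]⟩

section

variable [FibCat.IsFibGrpd 𝒳.p]

theorem IsOver.symm {A : ℬ.obj} {a b : Pre f bot A} (h : IsOver (𝟙 A) a b) : IsOver (𝟙 A) b a := by
  obtain ⟨φ, hφ⟩ := h
  have := lift_of_eq hφ
  have : 𝒳.p.IsHomLift (𝟙 (ℬ.p.obj A)) φ := by rw [← ℬ.p.map_id]; exact this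
  have : IsIso φ := isIso_of_lift (p := 𝒳.p) (𝟙 (ℬ.p.obj A)) φ
  refine ⟨inv φ, ?_⟩
  rw [bot.toFunctor.map_id, Category.id_comp] at hφ ⊢
  rw [hφ, Category.assoc, ← f.toFunctor.map_comp, IsIso.hom_inv_id, f.toFunctor.map_id, Category.comp_id]

instance preSetoid (A : ℬ.obj) : Setoid (Pre f bot A) where
  r a b := IsOver (𝟙 A) a b
  iseqv :=
    { refl := fun a => IsOver.id a
      symm := fun h => h.symm
      trans := fun h h' => by simpa using h.comp h' }

variable (f bot) in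
/-- The objects of `𝒳` over `bot A` up to isomorphism over `bot A`. -/
abbrev Fill (A : ℬ.obj) := Quotient (preSetoid (f := f) (bot := bot) A)

variable [FibCat.IsFibGrpd 𝒴.p]

theorem exists_isOver {A B : ℬ.obj} (m : B ⟶ A) (a : Pre f bot A) : ∃ b : Pre f bot B, IsOver m b a := by
  obtain ⟨y, φ, hφ⟩ := exists_lift_of_eq (p := 𝒳.p) inferInstance a.base (ℬ.p.map m)
  have := lift_bot_comp m a
  have : 𝒴.p.IsHomLift (ℬ.p.map m) (f.map φ) := f.preserves_isHomLift _ φ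
  obtain ⟨e, he, w⟩ := exists_iso_of_lifts (p := 𝒴.p) (ℬ.p.map m) (f.map φ) (bot.map m ≫ a.α.hom)
  exact ⟨⟨y, e, he⟩, φ, w.symm⟩

theorem IsOver.unique {A B : ℬ.obj} {m : B ⟶ A} {a : Pre f bot A} {b b' : Pre f bot B}
    (h : IsOver m b a) (h' : IsOver m b' a) : IsOver (𝟙 B) b b' := by
  obtain ⟨φ, hφ⟩ := h
  obtain ⟨φ', hφ'⟩ := h'
  have := lift_of_eq hφ
  have := lift_of_eq hφ'
  have := isSC (p := 𝒳.p) (ℬ.p.map m) φ'
  let ψ := IsCartesian.map 𝒳.p (ℬ.p.map m) φ' φ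
  have hψ : ψ ≫ φ' = φ := IsCartesian.fac 𝒳.p (ℬ.p.map m) φ' φ
  refine ⟨ψ, ?_⟩
  rw [bot.toFunctor.map_id, Category.id_comp]
  have : 𝒴.p.IsHomLift (ℬ.p.map m) (f.map φ') := f.preserves_isHomLift _ φ'
  have := isSC (p := 𝒴.p) (ℬ.p.map m) (f.map φ')
  have := b.hα
  have := b'.hα
  have : 𝒴.p.IsHomLift (𝟙 (ℬ.p.obj B)) (f.map ψ) := f.preserves_isHomLift _ ψ
  have : 𝒴.p.IsHomLift (𝟙 (ℬ.p.obj B)) (b.α.hom ≫ f.map ψ) := by
    simpa using IsHomLift.comp 𝒴.p (𝟙 (ℬ.p.obj B)) (𝟙 (ℬ.p.obj B)) b.α.hom (f.map ψ)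
  refine IsCartesian.ext 𝒴.p (ℬ.p.map m) (f.map φ') _ _ ?_
  rw [← hφ', hφ, Category.assoc, ← f.toFunctor.map_comp, hψ]

/-- Restriction along a morphism of the test category. -/
noncomputable def res {A B : ℬ.obj} (m : B ⟶ A) : Fill f bot A → Fill f bot B :=
  Quotient.lift (fun a => ⟦(exists_isOver m a).choose⟧) fun a a' h => Quotient.sound
    (IsOver.unique (show IsOver m _ a' by simpa using (exists_isOver m a).choose_spec.comp h)
      (exists_isOver m a').choose_spec)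

theorem res_mk_iff {A B : ℬ.obj} (m : B ⟶ A) (a : Pre f bot A) (b : Pre f bot B) :
    res m ⟦a⟧ = ⟦b⟧ ↔ IsOver m b a := by
  refine ⟨fun h => ?_, fun h => Quotient.sound (IsOver.unique (exists_isOver m a).choose_spec h)⟩
  have h' : IsOver (𝟙 B) (exists_isOver m a).choose b := Quotient.exact h
  simpa using h'.symm.comp (exists_isOver m a).choose_spec

theorem res_id {A : ℬ.obj} (ℓ : Fill f bot A) : res (𝟙 A) ℓ = ℓ := by
  induction ℓ using Quotient.inductionOn with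
  | h a => exact (res_mk_iff _ a a).2 (IsOver.id a)

theorem res_comp {A B D : ℬ.obj} (n : D ⟶ B) (m : B ⟶ A) (ℓ : Fill f bot A) :
    res (n ≫ m) ℓ = res n (res m ℓ) := by
  induction ℓ using Quotient.inductionOn with
  | h a =>
    obtain ⟨b, hb⟩ := exists_isOver m a
    obtain ⟨d, hd⟩ := exists_isOver n b
    rw [(res_mk_iff m a b).2 hb, (res_mk_iff n b d).2 hd]
    exact (res_mk_iff _ a d).2 (hd.comp hb)

end

/-! ### Squares -/

variable {𝒜 : BasedCategory.{v₂, u₂} C} {j : 𝒜 ⥤ᵇ ℬ}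

/-- The family given by the top of a square. -/
def topPre (sq : LiftSq.Sq j f) (B : 𝒜.obj) : Pre f sq.bot (j.obj B) where
  x := sq.top.obj B
  α := isoApp sq.iso B
  hα := isoApp_lift sq.iso (j.w_obj B).symm

variable [FibCat.IsFibGrpd 𝒳.p] [FibCat.IsFibGrpd 𝒴.p]

theorem isOver_topPre (sq : LiftSq.Sq j f) {B B' : 𝒜.obj} (m : B' ⟶ B) :
    IsOver (j.map m) (topPre sq B') (topPre sq B) :=
  ⟨sq.top.map m, natural sq.iso m⟩

/-- The class of the given family. -/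
noncomputable def topFill (sq : LiftSq.Sq j f) (B : 𝒜.obj) : Fill f sq.bot (j.obj B) := ⟦topPre sq B⟧

theorem res_topFill (sq : LiftSq.Sq j f) {B B' : 𝒜.obj} (m : B' ⟶ B) :
    res (j.map m) (topFill sq B) = topFill sq B' :=
  (res_mk_iff _ _ _).2 (isOver_topPre sq m)

/-- A compatible family extending the given one. -/
structure Ext (sq : LiftSq.Sq j f) where
  val : ∀ A, Fill f sq.bot A
  comp : ∀ {A B : ℬ.obj} (m : B ⟶ A), res m (val A) = val B
  top : ∀ B, val (j.obj B) = topFill sq B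

variable [f.toFunctor.Faithful]

theorem hasLift_of_ext {sq : LiftSq.Sq j f} (s : Ext sq) : sq.HasLift := by
  choose a ha using fun A => Quotient.exists_rep (s.val A)
  have hov : ∀ {A B : ℬ.obj} (m : B ⟶ A), IsOver m (a B) (a A) := fun {A B} m =>
    (res_mk_iff m _ _).1 (by rw [ha, ha]; exact s.comp m)
  choose φ hφ using @hov
  have huniq : ∀ {A B : ℬ.obj} (m : B ⟶ A) (ψ : (a B).x ⟶ (a A).x),
      sq.bot.map m ≫ (a A).α.hom = (a B).α.hom ≫ f.map ψ → φ m = ψ := fun {A B} m ψ h =>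
    f.toFunctor.map_injective ((cancel_epi (a B).α.hom).1 ((hφ m).symm.trans h))
  let L₀ : ℬ.obj ⥤ 𝒳.obj :=
    { obj := fun A => (a A).x
      map := fun {B A} m => φ m
      map_id := fun A => huniq _ _ (by rw [f.toFunctor.map_id, sq.bot.toFunctor.map_id, Category.id_comp, Category.comp_id])
      map_comp := fun {X Y Z} n m => huniq _ _ (by
        rw [f.toFunctor.map_comp, sq.bot.toFunctor.map_comp, Category.assoc, hφ m, reassoc_of% hφ n]) }
  have hw : L₀ ⋙ 𝒳.p = ℬ.p := Functor.ext (fun A => (a A).base) fun A B m => by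
    have := lift_of_eq (hφ m)
    simpa [L₀] using IsHomLift.fac' 𝒳.p (ℬ.p.map m) (φ m)
  let L : ℬ ⥤ᵇ 𝒳 := { toFunctor := L₀, w := hw }
  let iB : sq.bot ≅ BasedFunctor.comp L f :=
    BasedNatIso.mkNatIso (NatIso.ofComponents (fun A => (a A).α) (fun {X Y} m => hφ m)) fun A => (a A).hα
  have htop : ∀ B, IsOver (𝟙 (j.obj B)) (a (j.obj B)) (topPre sq B) := fun B =>
    Quotient.exact ((ha (j.obj B)).trans (s.top B))
  choose ψ hψ using htop
  have hψ' : ∀ B, (a (j.obj B)).α.hom ≫ f.map (ψ B) = (isoApp sq.iso B).hom := fun B => by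
    refine (hψ B).symm.trans ?_
    rw [sq.bot.toFunctor.map_id]
    exact Category.id_comp _
  have hlift : ∀ B, 𝒳.p.IsHomLift (𝟙 (𝒜.p.obj B)) (ψ B) := fun B => by
    refine isHomLift_id_congr (j.w_obj B) ?_
    rw [← ℬ.p.map_id]
    exact lift_of_eq (hψ B)
  have hiso : ∀ B, IsIso (ψ B) := fun B => have := hlift B; isIso_of_lift (p := 𝒳.p) (𝟙 (𝒜.p.obj B)) _
  let iT : BasedFunctor.comp j L ≅ sq.top :=
    BasedNatIso.mkNatIso (NatIso.ofComponents (fun B => @asIso _ _ _ _ (ψ B) (hiso B)) (fun {X Y} m => by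
      show φ (j.map m) ≫ ψ Y = ψ X ≫ sq.top.map m
      refine f.toFunctor.map_injective ((cancel_epi (a (j.obj X)).α.hom).1 ?_)
      rw [f.toFunctor.map_comp, f.toFunctor.map_comp, ← reassoc_of% hφ (j.map m), hψ' Y, reassoc_of% hψ' X]
      exact natural sq.iso m)) hlift
  exact ⟨{ fn := L, isoTop := iT, isoBot := iB, w := by ext B; exact hψ' B }⟩

/-- The value of a dotted arrow at an object. -/
def liftPre {sq : LiftSq.Sq j f} (d : sq.Lift) (A : ℬ.obj) : Pre f sq.bot A where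
  x := d.fn.obj A
  α := isoApp d.isoBot A
  hα := isoApp_lift d.isoBot rfl

theorem liftPre_top {sq : LiftSq.Sq j f} (d : sq.Lift) (B : 𝒜.obj) :
    (liftPre d (j.obj B)).α.hom ≫ f.map (isoApp d.isoTop B).hom = (isoApp sq.iso B).hom :=
  congrArg (fun (θ : BasedFunctor.comp j sq.bot ⟶ BasedFunctor.comp sq.top f) => θ.toNatTrans.app B) d.w

/-- The family of a dotted arrow. -/
noncomputable def extOfLift {sq : LiftSq.Sq j f} (d : sq.Lift) : Ext sq where
  val A := ⟦liftPre d A⟧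
  comp m := (res_mk_iff m _ _).2 ⟨d.fn.map m, natural d.isoBot m⟩
  top B := Quotient.sound ⟨(isoApp d.isoTop B).hom, by
    rw [sq.bot.toFunctor.map_id, Category.id_comp]
    exact (liftPre_top d B).symm⟩

theorem uniqLift_of_isOver {sq : LiftSq.Sq j f}
    (h : ∀ (d d' : sq.Lift) (A : ℬ.obj), IsOver (𝟙 A) (liftPre d A) (liftPre d' A)) : sq.UniqLift := by
  intro d d'
  have hov : ∀ A, IsOver (𝟙 A) (liftPre d A) (liftPre d' A) := h d d'
  choose θ hθ using hov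
  have hθ' : ∀ A, (isoApp d.isoBot A).hom ≫ f.map (θ A) = (isoApp d'.isoBot A).hom := fun A => by
    refine (hθ A).symm.trans ?_
    rw [sq.bot.toFunctor.map_id]
    exact Category.id_comp _
  let τ : d.fn ⟶ d'.fn :=
    { app := θ
      naturality := fun X Y m => by
        refine f.toFunctor.map_injective ((cancel_epi (isoApp d.isoBot X).hom).1 ?_)
        show _ ≫ f.map (d.fn.map m ≫ θ Y) = _ ≫ f.map (θ X ≫ d'.fn.map m)
        have h₁ : (isoApp d.isoBot X).hom ≫ f.map (d.fn.map m) = sq.bot.map m ≫ (isoApp d.isoBot Y).hom :=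
          (natural d.isoBot m).symm
        have h₂ : sq.bot.map m ≫ (isoApp d'.isoBot Y).hom = (isoApp d'.isoBot X).hom ≫ f.map (d'.fn.map m) :=
          natural d'.isoBot m
        rw [f.toFunctor.map_comp, f.toFunctor.map_comp, reassoc_of% hθ' X, reassoc_of% h₁, hθ' Y, h₂]
      isHomLift' := fun A => by
        rw [← ℬ.p.map_id]
        exact lift_of_eq (hθ A) }
  refine ⟨{ default := ⟨τ, ?_, ?_⟩, uniq := fun σ => ?_ }⟩
  · ext B
    refine f.toFunctor.map_injective ((cancel_epi (isoApp d.isoBot (j.obj B)).hom).1 ?_)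
    show _ ≫ f.map (θ (j.obj B) ≫ (isoApp d'.isoTop B).hom) = _ ≫ f.map (isoApp d.isoTop B).hom
    rw [f.toFunctor.map_comp, reassoc_of% hθ' (j.obj B)]
    exact (liftPre_top d' B).trans (liftPre_top d B).symm
  · ext A
    exact hθ' A
  · apply LiftSq.Sq.Lift.hom_ext
    ext A
    refine f.toFunctor.map_injective ((cancel_epi (isoApp d.isoBot A).hom).1 ?_)
    refine Eq.trans ?_ (hθ' A).symm
    exact congrArg (fun (t : sq.bot ⟶ BasedFunctor.comp d'.fn f) => t.toNatTrans.app A) σ.w_bot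

theorem uniqLift_of_ext {sq : LiftSq.Sq j f} (h : ∀ s s' : Ext sq, ∀ A, s.val A = s'.val A) : sq.UniqLift :=
  uniqLift_of_isOver fun d d' A => Quotient.exact (h (extOfLift d) (extOfLift d') A)

theorem uniquelyFills_of_ext {sq : LiftSq.Sq j f} (hex : Nonempty (Ext sq))
    (huniq : ∀ s s' : Ext sq, ∀ A, s.val A = s'.val A) : sq.UniquelyFills :=
  ⟨hex.elim hasLift_of_ext, uniqLift_of_ext huniq⟩

end Groth.Agent.ThetaL
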