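import Groth.Agent.ThetaL.Fill
import Groth.Agent.AlgStLib.Yoneda
import Mathlib.AlgebraicGeometry.Morphisms.Affine

/-!
# Fillings for affine representable morphisms are points of an affine scheme over the base
-/

set_option autoImplicit false
set_option backward.isDefEq.respectTransparency false
set_option backward.isDefEq.respectTransparency.types false

universe v₃ u₃ u

open CategoryTheory CategoryTheory.Functor CategoryTheory.Limits AlgebraicGeometry Opposite AlgSp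

namespace Groth.Agent.ThetaL

open Groth.Agent.FibBase Groth.Agent.AlgStLib

variable {S : Scheme.{u}} {𝒳 𝒴 : AlgSt.Cat S} {ℬ : BasedCategory.{v₃, u₃} (Over S)}
variable [FibCat.IsFibGrpd 𝒳.p] [FibCat.IsFibGrpd 𝒴.p] {f : 𝒳 ⥤ᵇ 𝒴} {bot : ℬ ⥤ᵇ 𝒴}

/-- The fillings over objects above `A` as the points of a scheme affine over the base of `A`. -/
structure Chart (f : 𝒳 ⥤ᵇ 𝒴) (bot : ℬ ⥤ᵇ 𝒴) (A : ℬ.obj) where
  V : Scheme.{u}
  π : V ⟶ (ℬ.p.obj A).left
  aff : IsAffineHom π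
  pt : ∀ {B : ℬ.obj}, (B ⟶ A) → Fill f bot B → ((ℬ.p.obj B).left ⟶ V)
  pt_π : ∀ {B : ℬ.obj} (m : B ⟶ A) (ℓ : Fill f bot B), pt m ℓ ≫ π = (ℬ.p.map m).left
  pt_res : ∀ {B B' : ℬ.obj} (n : B' ⟶ B) (m : B ⟶ A) (ℓ : Fill f bot B),
    pt (n ≫ m) (res n ℓ) = (ℬ.p.map n).left ≫ pt m ℓ
  pt_inj : ∀ {B : ℬ.obj} (m : B ⟶ A), Function.Injective (pt m)
  pt_surj : ∀ {B : ℬ.obj} (m : B ⟶ A) (g : (ℬ.p.obj B).left ⟶ V), g ≫ π = (ℬ.p.map m).left → ∃ ℓ, pt m ℓ = g

theorem isHomLift_id_of_eqToHom {𝒵 : AlgSt.Cat S} {R R' : Over S} (h : R = R') {a b : 𝒵.obj} (φ : a ⟶ b)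
    (hφ : 𝒵.p.IsHomLift (eqToHom h) φ) : 𝒵.p.IsHomLift (𝟙 R) φ := by
  subst h; simpa using hφ

theorem secAt_comp_eq {C : Type*} [Category C] {𝒜 ℰ : BasedCategory C} {Q : Cᵒᵖ ⥤ Type*} (E : 𝒜 ⥤ᵇ ℰ)
    (K : ℰ ⥤ᵇ Stk.ofPsh Q) (a : 𝒜.obj) :
    Q.map (eqToHom (E.w_obj a).symm).op (secAt K (E.obj a)) = secAt (BasedFunctor.comp E K) a := by
  refine (res_res Q _ _ _).trans (res_congr Q ?_ _)
  exact eqToHom_trans _ _

/-- Morphisms representable with a property implying affineness have charts with that property. -/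
theorem exists_chart_with {P : MorphismProperty Scheme.{u}} (hP' : P ≤ @IsAffineHom)
    (hf : AlgSt.RepByAlgSpWith (AlgSp.RepWith P) f) (A : ℬ.obj) :
    ∃ c : Chart f bot A, P c.π := by
  obtain ⟨y, e0, he0⟩ := exists_overCat_obj (𝒳 := 𝒴) inferInstance (U := ℬ.p.obj A) (bot.obj A) (bot.w_obj A)
  obtain ⟨F, e, he, hP⟩ := hf (ℬ.p.obj A) y
  obtain ⟨V, q, fst, hpb⟩ := hP.1 (𝟙 _)
  have hqP : P q.left := hP.2 _ fst q hpb
  have hq : IsAffineHom q.left := hP' _ hqP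
  have : IsIso fst := hpb.isIso_fst_of_isIso
  let E : AlgSt.ofSch V ⥤ᵇ FibCat.fp y f := BasedFunctor.comp (AlgSt.ofSpMap fst) e
  have hE : FibCat.IsEquivOver E := isEquivOver_comp (isEquivOver_ofSpMap fst) he
  have hΦ : AlgSt.spMapOfOver (BasedFunctor.comp E (FibCat.fpFst y f)) = (yon S).map q := by
    refine (spMapOfOver_comp (AlgSt.ofSpMap fst) (BasedFunctor.comp e (FibCat.fpFst y f))).trans ?_
    rw [spHom_ofSpMap, hpb.w, Category.comp_id]
  obtain ⟨K, ⟨i₁⟩, ⟨i₂⟩⟩ := hE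
  -- points of fp objects
  let g : ∀ o : (FibCat.fp y f).obj, ((FibCat.fp y f).p.obj o).left ⟶ V.left := fun o => (secAt K o).down.left
  have hg : ∀ {o o' : (FibCat.fp y f).obj} (t : o ⟶ o'), ((FibCat.fp y f).p.map t).left ≫ g o' = g o :=
    fun {o o'} t => congrArg (fun s : ULift (_ ⟶ V) => s.down.left) (secAt_map K t)
  have hgq : ∀ o : (FibCat.fp y f).obj, g o ≫ q.left = o.obj.fst.hom.left := fun o => by
    let Φ' : AlgSt.ofSch V ⥤ᵇ AlgSt.ofSch (ℬ.p.obj A) :=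
      BasedFunctor.comp (BasedFunctor.comp E (FibCat.fpFst y f)) (AlgSt.ofOverCat _)
    have h₁ : secAt (BasedFunctor.comp K Φ') o =
        secAt (BasedFunctor.comp (FibCat.fpFst y f) (AlgSt.ofOverCat _)) o :=
      secAt_eq_of_iso (whiskerRightIso i₂ (BasedFunctor.comp (FibCat.fpFst y f) (AlgSt.ofOverCat _))) o
    have h₂ : secAt (BasedFunctor.comp K Φ') o = ((yon S).map q).hom.app _ (secAt K o) := by
      rw [secAt_eq_of_iso (whiskerLeftIso K (isoOfPshMap Φ')) o, secAt_comp_ofPshMap,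
        show pshMap Φ' = ((yon S).map q).hom from by
          rw [← hΦ, spMapOfOver_eq]
          rfl]
    have h₃ := congrArg (fun s : ULift (_ ⟶ ℬ.p.obj A) => s.down.left)
      ((h₂.symm.trans h₁).trans (secAt_comp_ofOverCat (FibCat.fpFst y f) o))
    refine h₃.trans ?_
    exact congrArg CommaMorphism.left (Category.id_comp o.obj.fst.hom)
  -- the object attached to an element over `B`
  have hi : ∀ {B : ℬ.obj} (m : B ⟶ A), ∃ i : y.obj (Over.mk (ℬ.p.map m)) ≅ bot.obj B,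
      𝒴.p.IsHomLift (𝟙 (ℬ.p.obj B)) i.hom ∧ y.map (toId (Over.mk (ℬ.p.map m))) ≫ e0.hom = i.hom ≫ bot.map m :=
    fun {B} m =>
      have : 𝒴.p.IsHomLift (Over.mk (ℬ.p.map m)).hom (bot.map m) := bot.preserves_isHomLift (ℬ.p.map m) m
      exists_point_of_hom inferInstance y e0 he0 (Over.mk (ℬ.p.map m)) (bot.map m)
  choose i hi₁ hi₂ using @hi
  let o : ∀ {B : ℬ.obj}, (B ⟶ A) → Pre f bot B → (FibCat.fp y f).obj := fun {B} m b =>
    ⟨⟨Over.mk (ℬ.p.map m), b.x, i m ≪≫ b.α⟩, by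
      have := hi₁ m
      have := b.hα
      show 𝒴.p.IsHomLift (𝟙 (ℬ.p.obj B)) ((i m).hom ≫ b.α.hom)
      simpa using IsHomLift.comp 𝒴.p (𝟙 (ℬ.p.obj B)) (𝟙 (ℬ.p.obj B)) (i m).hom b.α.hom⟩
  -- morphisms
  have homs : ∀ {B B' : ℬ.obj} (n : B' ⟶ B) (m : B ⟶ A) (m' : B' ⟶ A), n ≫ m = m' →
      ∀ (b : Pre f bot B) (b' : Pre f bot B'), IsOver n b' b →
      (ℬ.p.map n).left ≫ g (o m b) = g (o m' b') := by
    intro B B' n m m' hm b b' ⟨φ, hφ⟩
    let k : Over.mk (ℬ.p.map m') ⟶ Over.mk (ℬ.p.map m) := Over.homMk (ℬ.p.map n) (by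
      show ℬ.p.map n ≫ ℬ.p.map m = ℬ.p.map m'
      rw [← Functor.map_comp, hm])
    have hk : y.map k ≫ (i m).hom = (i m').hom ≫ bot.map n := by
      have : 𝒴.p.IsHomLift (ℬ.p.map m) (bot.map m) := bot.preserves_isHomLift _ m
      have := isSC (p := 𝒴.p) (ℬ.p.map m) (bot.map m)
      have := hi₁ m
      have := hi₁ m'
      have : 𝒴.p.IsHomLift (ℬ.p.map n) (bot.map n) := bot.preserves_isHomLift _ n
      have : 𝒴.p.IsHomLift (ℬ.p.map n) (y.map k) := overMap_isHomLift y k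
      have : 𝒴.p.IsHomLift (ℬ.p.map n) (y.map k ≫ (i m).hom) := by
        simpa using IsHomLift.comp 𝒴.p (ℬ.p.map n) (𝟙 (ℬ.p.obj B)) (y.map k) (i m).hom
      have : 𝒴.p.IsHomLift (ℬ.p.map n) ((i m').hom ≫ bot.map n) := by
        simpa using IsHomLift.comp 𝒴.p (𝟙 (ℬ.p.obj B')) (ℬ.p.map n) (i m').hom (bot.map n)
      refine IsStronglyCartesian.ext 𝒴.p (ℬ.p.map m) (bot.map m) (ℬ.p.map n) ?_
      rw [Category.assoc, Category.assoc, ← bot.toFunctor.map_comp, hm, ← hi₂ m, ← hi₂ m', ← Category.assoc,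
        ← y.toFunctor.map_comp]
      congr 2
      apply Over.OverMorphism.ext
      show ℬ.p.map n ≫ ℬ.p.map m = ℬ.p.map m'
      rw [← Functor.map_comp, hm]
    let t : o m' b' ⟶ o m b := ObjectProperty.homMk ⟨k, φ, by
      show y.map k ≫ (i m).hom ≫ b.α.hom = ((i m').hom ≫ b'.α.hom) ≫ f.map φ
      rw [reassoc_of% hk, hφ, Category.assoc]⟩
    exact hg t
  have hwd : ∀ {B : ℬ.obj} (m : B ⟶ A) (b b' : Pre f bot B), IsOver (𝟙 B) b b' → g (o m b) = g (o m b') :=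
    fun {B} m b b' h => by
      have := homs (𝟙 B) m m (Category.id_comp m) b' b h
      rw [ℬ.p.map_id, Over.id_left] at this
      exact this.symm.trans (Category.id_comp _)
  refine ⟨{ V := V.left, π := q.left, aff := hq, pt := fun {B} m => Quotient.lift (fun b => g (o m b)) (hwd m),
            pt_π := ?_, pt_res := ?_, pt_inj := ?_, pt_surj := ?_ }, hqP⟩
  · intro B m ℓ
    induction ℓ using Quotient.inductionOn with
    | h b => exact hgq (o m b)
  · intro B B' n m ℓ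
    induction ℓ using Quotient.inductionOn with
    | h b =>
      obtain ⟨b', hb'⟩ := exists_isOver n b
      rw [(res_mk_iff n b b').2 hb']
      exact (homs n m (n ≫ m) rfl b b' hb').symm
  · intro B m ℓ ℓ' h
    induction ℓ, ℓ' using Quotient.inductionOn₂ with
    | h b b' =>
      have hs : secAt K (o m b) = secAt K (o m b') := ULift.ext _ _ (Over.OverMorphism.ext h)
      have hb : (K.obj (o m b)).base = (K.obj (o m b')).base := (K.w_obj (o m b)).trans (K.w_obj (o m b')).symm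
      let z : K.obj (o m b) ≅ K.obj (o m b') := eltIso (eqToIso hb) (by
        refine (res_congr _ (eqToHom_trans (K.w_obj (o m b)) (K.w_obj (o m b')).symm).symm _).trans ?_
        refine (res_res _ _ _ _).symm.trans ?_
        refine (congrArg _ hs.symm).trans ?_
        exact (res_res _ _ _ _).trans (AlgStLib.res_id _ _ (eqToHom_trans _ _) _))
      have hz : (AlgSt.ofSch V).p.IsHomLift (𝟙 (ℬ.p.obj B)) z.hom :=
        isHomLift_id_of_map_eq (p := (AlgSt.ofSch V).p) (K.w_obj (o m b)) (K.w_obj (o m b')) rfl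
      have hz' : (FibCat.fp y f).p.IsHomLift (𝟙 (ℬ.p.obj B)) (E.map z.hom) := E.preserves_isHomLift _ z.hom
      have : (FibCat.fp y f).p.IsHomLift (𝟙 (ℬ.p.obj B)) (isoApp i₂ (o m b)).inv := isoApp_inv_lift i₂ rfl
      have : (FibCat.fp y f).p.IsHomLift (𝟙 (ℬ.p.obj B)) (isoApp i₂ (o m b')).hom := isoApp_lift i₂ rfl
      let t : o m b ⟶ o m b' := (isoApp i₂ (o m b)).inv ≫ E.map z.hom ≫ (isoApp i₂ (o m b')).hom
      have htl : (FibCat.fp y f).p.IsHomLift (𝟙 (ℬ.p.obj B)) t := by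
        have h₁ := IsHomLift.comp (FibCat.fp y f).p (𝟙 (ℬ.p.obj B)) (𝟙 (ℬ.p.obj B)) (E.map z.hom)
          (isoApp i₂ (o m b')).hom
        rw [Category.comp_id] at h₁
        have h₂ := IsHomLift.comp (FibCat.fp y f).p (𝟙 (ℬ.p.obj B)) (𝟙 (ℬ.p.obj B)) (isoApp i₂ (o m b)).inv
          (E.map z.hom ≫ (isoApp i₂ (o m b')).hom)
        rw [Category.comp_id] at h₂
        exact h₂
      have ht : t.hom.fst = 𝟙 _ := Over.OverMorphism.ext (by
        exact map_eq_of_isHomLift_id (p := (FibCat.fp y f).p) (φ := t) htl)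
      refine Quotient.sound ⟨t.hom.snd, ?_⟩
      have hw : y.map t.hom.fst ≫ (i m).hom ≫ b'.α.hom = ((i m).hom ≫ b.α.hom) ≫ f.map t.hom.snd := t.hom.w
      rw [ht] at hw
      rw [bot.toFunctor.map_id, Category.id_comp]
      refine (cancel_epi (i m).hom).1 ?_
      refine Eq.trans ?_ (hw.trans (Category.assoc _ _ _))
      exact ((congrArg (fun w => w ≫ _) (y.toFunctor.map_id _)).trans (Category.id_comp _)).symm
  · intro B m g₀ hg₀
    let γ : ℬ.p.obj B ⟶ V := Over.homMk g₀ (by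
      have h := Over.w (ℬ.p.map m)
      rw [← hg₀, Category.assoc] at h
      exact (congrArg (fun w => g₀ ≫ w) (Over.w q)).symm.trans h)
    let η : (AlgSt.ofSch V).obj := ⟨ℬ.p.obj B, ⟨γ⟩⟩
    let W := (E.obj η).obj.fst
    have hW : W.left = ℬ.p.obj B := E.w_obj η
    have hWh : eqToHom hW.symm ≫ W.hom = ℬ.p.map m := by
      have h₁ := congrArg ULift.down (congrArg
        (fun s : (yon S).obj V ⟶ (yon S).obj (ℬ.p.obj A) =>
          (s.hom.app (op (ℬ.p.obj B)) (⟨γ⟩ : ULift (ℬ.p.obj B ⟶ V)) : ULift (ℬ.p.obj B ⟶ ℬ.p.obj A))) hΦ)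
      refine h₁.trans (Over.OverMorphism.ext ?_)
      exact hg₀
    let θ : Over.mk (ℬ.p.map m) ≅ W := Over.isoMk (eqToIso hW.symm) hWh
    let β := (E.obj η).obj.iso
    have hβ : 𝒴.p.IsHomLift (𝟙 W.left) β.hom := (E.obj η).property
    let b : Pre f bot B :=
      { x := (E.obj η).obj.snd
        α := (i m).symm ≪≫ y.toFunctor.mapIso θ ≪≫ β
        hα := by
          have := hi₁ m
          have : 𝒴.p.IsHomLift (𝟙 (ℬ.p.obj B)) (i m).inv := IsHomLift.lift_id_inv 𝒴.p _ (i m)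
          have : 𝒴.p.IsHomLift (eqToHom hW.symm) (y.map θ.hom) := overMap_isHomLift y θ.hom
          have h₁ : 𝒴.p.IsHomLift (eqToHom hW.symm) (y.map θ.hom ≫ β.hom) := by
            simpa using IsHomLift.comp 𝒴.p (eqToHom hW.symm) (𝟙 W.left) (y.map θ.hom) β.hom
          refine isHomLift_id_of_eqToHom hW.symm _ ?_
          show 𝒴.p.IsHomLift (eqToHom hW.symm) ((i m).inv ≫ y.map θ.hom ≫ β.hom)
          simpa using IsHomLift.comp 𝒴.p (𝟙 (ℬ.p.obj B)) (eqToHom hW.symm) (i m).inv (y.map θ.hom ≫ β.hom) }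
    refine ⟨⟦b⟧, ?_⟩
    let t : o m b ⟶ E.obj η := ObjectProperty.homMk ⟨θ.hom, 𝟙 _, by
      show y.map θ.hom ≫ β.hom = ((i m).hom ≫ (i m).inv ≫ y.map θ.hom ≫ β.hom) ≫ f.map (𝟙 _)
      rw [f.toFunctor.map_id, Iso.hom_inv_id_assoc]
      exact (Category.comp_id _).symm⟩
    show g (o m b) = g₀
    have h₂ : ((yon S).obj V).obj.map (eqToHom (E.w_obj η).symm).op (secAt K (E.obj η)) = (⟨γ⟩ : ULift _) := by
      refine (secAt_comp_eq E K η).trans ((secAt_eq_of_iso i₁ η).trans ?_)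
      exact AlgStLib.res_id _ _ rfl _
    exact (hg t).symm.trans (congrArg (fun s : ULift (ℬ.p.obj B ⟶ V) => s.down.left) h₂)

/-- Affine representable morphisms have charts. -/
theorem exists_chart (hf : AlgSt.RepByAlgSpWith (AlgSp.RepWith @IsAffineHom) f) (A : ℬ.obj) :
    Nonempty (Chart f bot A) :=
  let ⟨c, _⟩ := exists_chart_with (bot := bot) le_rfl hf A
  ⟨c⟩

end Groth.Agent.ThetaL
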