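import Mathlib.AlgebraicGeometry.AffineScheme
import Mathlib.RingTheory.Localization.Basic

/-!
# Functions on the union of two basic opens of an affine scheme
-/

set_option autoImplicit false
set_option backward.isDefEq.respectTransparency false
set_option backward.isDefEq.respectTransparency.types false

universe u

open CategoryTheory Opposite AlgebraicGeometry TopologicalSpace

namespace Groth.Agent.ThetaL

variable {Y : Scheme.{u}} [IsAffine Y]

/-- Restriction of global functions. -/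
noncomputable abbrev restr (W : Y.Opens) : Γ(Y, ⊤) ⟶ Γ(Y, W) := Y.presheaf.map (homOfLE le_top).op

omit [IsAffine Y] in
theorem restr_restr {W W' : Y.Opens} (i : W' ⟶ W) (x : Γ(Y, ⊤)) :
    Y.presheaf.map i.op (restr W x) = restr W' x :=
  (ConcreteCategory.comp_apply _ _ x).symm.trans (congrArg (fun q : Γ(Y, ⊤) ⟶ Γ(Y, W') => q x)
    (Y.presheaf.map_comp _ _).symm)

theorem isLocalization_restr (a : Γ(Y, ⊤)) :
    letI := (restr (Y.basicOpen a)).hom.toAlgebra
    IsLocalization.Away a Γ(Y, Y.basicOpen a) :=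
  (isAffineOpen_top Y).isLocalization_basicOpen a

theorem exists_num (a : Γ(Y, ⊤)) (s : Γ(Y, Y.basicOpen a)) :
    ∃ (n : ℕ) (x : Γ(Y, ⊤)), s * restr (Y.basicOpen a) a ^ n = restr (Y.basicOpen a) x := by
  letI := (restr (Y.basicOpen a)).hom.toAlgebra
  have := isLocalization_restr a
  obtain ⟨⟨x, ⟨_, n, rfl⟩⟩, h⟩ := IsLocalization.surj (Submonoid.powers a) s
  exact ⟨n, x, by simpa [RingHom.algebraMap_toAlgebra] using h⟩

theorem exists_pow_of_restr_eq (a : Γ(Y, ⊤)) {x y : Γ(Y, ⊤)}
    (h : restr (Y.basicOpen a) x = restr (Y.basicOpen a) y) : ∃ k : ℕ, a ^ k * x = a ^ k * y := by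
  letI := (restr (Y.basicOpen a)).hom.toAlgebra
  have := isLocalization_restr a
  obtain ⟨⟨_, k, rfl⟩, h⟩ := IsLocalization.exists_of_eq (M := Submonoid.powers a) (show algebraMap _ Γ(Y, Y.basicOpen a) x = algebraMap _ _ y from h)
  exact ⟨k, h⟩

theorem restr_basicOpen_injective (a : Γ(Y, ⊤)) (ha : ∀ x, a * x = 0 → x = 0) :
    Function.Injective (restr (Y.basicOpen a)) := fun x y h => by
  obtain ⟨k, hk⟩ := exists_pow_of_restr_eq a h
  have hr : IsLeftRegular a := fun p q e => sub_eq_zero.1 (ha _ (by rw [mul_sub]; exact sub_eq_zero.2 e))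
  exact hr.pow k hk

omit [IsAffine Y] in
theorem ι_appTop_eq (W : Y.Opens) :
    W.ι.appTop = restr W ≫ Y.presheaf.map (eqToHom W.ι_image_top).op := by
  rw [Scheme.Opens.ι_appTop, restr, ← Functor.map_comp]
  rfl

theorem ι_appTop_injective (a : Γ(Y, ⊤)) (ha : ∀ x, a * x = 0 → x = 0) :
    Function.Injective (Y.basicOpen a).ι.appTop := by
  rw [ι_appTop_eq]
  exact (ConcreteCategory.bijective_of_isIso (Y.presheaf.map (eqToHom (Y.basicOpen a).ι_image_top).op)).1.comp
    (restr_basicOpen_injective a ha)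

/-- Functions extend uniquely over the complement of `V(a, b)` for a regular sequence `a, b` with `b` regular. -/
theorem ι_appTop_bijective (a b : Γ(Y, ⊤)) (ha : ∀ x, a * x = 0 → x = 0) (hb : ∀ x, b * x = 0 → x = 0)
    (hab : ∀ x, a ∣ b * x → a ∣ x) :
    Function.Bijective (Y.basicOpen a ⊔ Y.basicOpen b).ι.appTop := by
  rw [ι_appTop_eq]
  refine (ConcreteCategory.bijective_of_isIso
    (Y.presheaf.map (eqToHom (Y.basicOpen a ⊔ Y.basicOpen b).ι_image_top).op)).comp ⟨fun x y h => ?_, fun s => ?_⟩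
  · refine restr_basicOpen_injective a ha ?_
    rw [← restr_restr (homOfLE (le_sup_left : Y.basicOpen a ≤ Y.basicOpen a ⊔ Y.basicOpen b)) x,
      ← restr_restr (homOfLE (le_sup_left : Y.basicOpen a ≤ Y.basicOpen a ⊔ Y.basicOpen b)) y]
    exact congrArg (Y.presheaf.map _) h
  have hra : IsLeftRegular a := fun p q e => sub_eq_zero.1 (ha _ (by rw [mul_sub]; exact sub_eq_zero.2 e))
  have hrb : IsLeftRegular b := fun p q e => sub_eq_zero.1 (hb _ (by rw [mul_sub]; exact sub_eq_zero.2 e))
  let ia : Y.basicOpen a ⟶ Y.basicOpen a ⊔ Y.basicOpen b := homOfLE le_sup_left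
  let ib : Y.basicOpen b ⟶ Y.basicOpen a ⊔ Y.basicOpen b := homOfLE le_sup_right
  obtain ⟨n, u, hu⟩ := exists_num a (Y.presheaf.map ia.op s)
  obtain ⟨m, v, hv⟩ := exists_num b (Y.presheaf.map ib.op s)
  have hle₁ : Y.basicOpen (a * b) ≤ Y.basicOpen a := (Scheme.basicOpen_mul Y a b).le.trans inf_le_left
  have hle₂ : Y.basicOpen (a * b) ≤ Y.basicOpen b := (Scheme.basicOpen_mul Y a b).le.trans inf_le_right
  have hu' := congrArg (Y.presheaf.map (homOfLE hle₁).op) hu
  have hv' := congrArg (Y.presheaf.map (homOfLE hle₂).op) hv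
  have e₀ : Y.presheaf.map (homOfLE hle₁).op (Y.presheaf.map ia.op s) =
      Y.presheaf.map (homOfLE hle₂).op (Y.presheaf.map ib.op s) := by
    rw [← ConcreteCategory.comp_apply, ← ConcreteCategory.comp_apply, ← Functor.map_comp, ← Functor.map_comp]
    rfl
  rw [map_mul, map_pow, restr_restr, restr_restr] at hu' hv'
  have e₁ : restr (Y.basicOpen (a * b)) (u * b ^ m) = restr (Y.basicOpen (a * b)) (v * a ^ n) := by
    rw [map_mul, map_mul, map_pow, map_pow, ← hu', ← hv', e₀, mul_right_comm]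
  obtain ⟨k, hk⟩ := exists_pow_of_restr_eq (a * b) e₁
  have e₂ : u * b ^ m = v * a ^ n := ((hra.mul hrb).pow k) hk
  have hdiv : ∀ (j : ℕ) (x : Γ(Y, ⊤)), a ∣ b ^ j * x → a ∣ x := fun j => by
    induction j with
    | zero => intro x hx; simpa using hx
    | succ j ih => intro x hx; exact ih x (hab _ (by rwa [← mul_assoc, ← pow_succ']))
  have hpow : ∀ (i : ℕ) (x z : Γ(Y, ⊤)), x * b ^ m = z * a ^ i → a ^ i ∣ x := fun i => by
    induction i with
    | zero => intro x z _; simp
    | succ i ih =>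
      intro x z hxz
      obtain ⟨x', rfl⟩ := hdiv m x ⟨z * a ^ i, by linear_combination hxz⟩
      obtain ⟨w, rfl⟩ := ih x' z (hra (show a * (x' * b ^ m) = a * (z * a ^ i) by linear_combination hxz))
      exact ⟨w, by ring⟩
  obtain ⟨w, rfl⟩ := hpow n u v e₂
  have hvw : v = w * b ^ m := (hra.pow n) (show a ^ n * v = a ^ n * (w * b ^ m) by linear_combination -e₂)
  refine ⟨w, ?_⟩
  refine TopCat.Sheaf.eq_of_locally_eq₂ Y.sheaf ia ib le_rfl _ _ ?_ ?_
  · show Y.presheaf.map ia.op (restr _ w) = Y.presheaf.map ia.op s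
    rw [restr_restr]
    refine ((Y.toRingedSpace.isUnit_res_basicOpen a).pow n).mul_left_injective ?_
    show restr (Y.basicOpen a) w * restr (Y.basicOpen a) a ^ n = Y.presheaf.map ia.op s * restr (Y.basicOpen a) a ^ n
    rw [hu, map_mul, map_pow, mul_comm]
  · show Y.presheaf.map ib.op (restr _ w) = Y.presheaf.map ib.op s
    rw [restr_restr]
    refine ((Y.toRingedSpace.isUnit_res_basicOpen b).pow m).mul_left_injective ?_
    show restr (Y.basicOpen b) w * restr (Y.basicOpen b) b ^ m = Y.presheaf.map ib.op s * restr (Y.basicOpen b) b ^ m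
    rw [hv, hvw, map_mul, map_pow]

end Groth.Agent.ThetaL
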