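import Groth.Agent.ThetaL.Descend
import Groth.Agent.ThetaL.TwoOpen
import Groth.Agent.GaNotSC.NodeAlg
import Mathlib.CategoryTheory.Limits.Constructions.Over.Connected
import Mathlib.AlgebraicGeometry.Morphisms.Flat

/-!
# Filling squares against the complement of `V(a, b)`
-/

set_option autoImplicit false
set_option backward.isDefEq.respectTransparency false
set_option backward.isDefEq.respectTransparency.types false

universe u

open CategoryTheory CategoryTheory.Functor CategoryTheory.Limits MonoidalCategory CartesianMonoidalCategory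
  AlgebraicGeometry

namespace Groth.Agent.ThetaL

open Groth.Agent.QuotLib

local notation "K₀" => Scheme.fppfPrecoverage

theorem appTop_regular {Y Z : Scheme.{u}} [IsAffine Y] [IsAffine Z] (q : Y ⟶ Z) [Flat q] {a : Γ(Z, ⊤)}
    (ha : ∀ x, a * x = 0 → x = 0) : ∀ x, q.appTop a * x = 0 → x = 0 := by
  letI := q.appTop.hom.toAlgebra
  have : Module.Flat Γ(Z, ⊤) Γ(Y, ⊤) := HasRingHomProperty.appTop (P := @Flat) q inferInstance
  exact fun x hx => Groth.Agent.GaNotSC.flat_injective ha hx

variable {S S' : Scheme.{u}} [IsAffine S'] {h : S' ⟶ S} {G X : Over S'} [GrpObj G] {aX : AlgGrp.Action G X}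
variable {𝒳 𝒴 : AlgSt.Cat S} [FibCat.IsFibGrpd 𝒳.p] [FibCat.IsFibGrpd 𝒴.p] {f : 𝒳 ⥤ᵇ 𝒴} [f.toFunctor.Faithful]

/-- Uniquely filling squares against an invariant open `D(a) ∪ D(b)` for a regular sequence `a, b`. -/
theorem uniquelyFills_two [IsAffineHom G.hom] [Flat G.hom] [LocallyOfFinitePresentation G.hom] [IsAffine X.left]
    (hf : AlgSt.RepByAlgSpWith (AlgSp.RepWith @IsAffineHom) f) (a b : Γ(X.left, ⊤))
    {Q : AlgSt.QuotObj K₀ G aX → Prop}
    (hQ : ∀ A : AlgSt.QuotObj K₀ G aX,
      Q A ↔ A.P.left.basicOpen (A.φ.left.appTop a) ⊔ A.P.left.basicOpen (A.φ.left.appTop b) = ⊤)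
    (ha : ∀ x, a * x = 0 → x = 0) (hb : ∀ x, b * x = 0 → x = 0) (hab : ∀ x, a ∣ b * x → a ∣ x)
    (hsa : ∀ q : (G ⊗ X).left, aX.act.left q ∈ X.left.basicOpen a ↔ (snd G X).left q ∈ X.left.basicOpen a)
    (hsb : ∀ q : (G ⊗ X).left, aX.act.left q ∈ X.left.basicOpen b ↔ (snd G X).left q ∈ X.left.basicOpen b)
    (sq : LiftSq.Sq (AlgSt.subIncl (ThetaS.overS h (AlgSt.QuotSt K₀ G aX)) Q) f) : sq.UniquelyFills := by
  let V : X.left.Opens := X.left.basicOpen a ⊔ X.left.basicOpen b
  let U : Over S' := Over.mk (V.ι ≫ X.hom)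
  let jU : U ⟶ X := Over.homMk V.ι rfl
  have hrange : ∀ (T : Over S') (g : T ⟶ X),
      (∃ k : T ⟶ U, k ≫ jU = g) ↔ ∀ z : T.left, g.left z ∈ V := fun T g => by
    refine ⟨?_, fun H => ?_⟩
    · rintro ⟨k, rfl⟩ z
      show V.ι (k.left z) ∈ V
      exact (k.left z).2
    · have hsub : Set.range g.left ⊆ Set.range V.ι := by
        rw [Scheme.Opens.range_ι]
        rintro _ ⟨z, rfl⟩
        exact H z
      refine ⟨Over.homMk (IsOpenImmersion.lift V.ι g.left hsub) ?_, Over.OverMorphism.ext (IsOpenImmersion.lift_fac _ _ _)⟩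
      exact (IsOpenImmersion.lift_fac_assoc _ _ hsub _).trans (Over.w g)
  have hQ' : ∀ A : AlgSt.QuotObj K₀ G aX, Q A ↔ ∃ k : A.P ⟶ U, k ≫ jU = A.φ := fun A => by
    rw [hQ, hrange, ← Scheme.preimage_basicOpen_top, ← Scheme.preimage_basicOpen_top, ← Scheme.Hom.preimage_sup]
    exact ⟨fun e z => (e.ge (Set.mem_univ z) :), fun e => top_unique fun z _ => e z⟩
  have hwhisk : ∀ z : (G ⊗ U).left, (snd G X).left ((G ◁ jU).left z) ∈ V := fun z => by
    have e := congrArg (fun m : G ⊗ U ⟶ X => m.left z) (whiskerLeft_snd G jU)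
    exact (congrArg (· ∈ V) e).mpr ((snd G U).left z).2
  obtain ⟨kst, hst⟩ := (hrange (G ⊗ U) ((G ◁ jU) ≫ aX.act)).2 fun z =>
    (hwhisk z).imp ((hsa _).2 ·) ((hsb _).2 ·)
  have hG : IsAffine G.left := isAffine_of_isAffineHom G.hom
  have hsnd : IsPullback (fst G X).left (snd G X).left (toUnit G).left (toUnit X).left :=
    (AlgSt.isPullback_fst_snd G X).map (Over.forget S')
  have hflat : Flat (toUnit G).left := by
    have e : (toUnit G).left = G.hom := by simpa using Over.w (toUnit G)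
    rw [e]; infer_instance
  have haff : IsAffineHom (toUnit G).left := by
    have e : (toUnit G).left = G.hom := by simpa using Over.w (toUnit G)
    rw [e]; infer_instance
  have : Flat (snd G X).left := MorphismProperty.of_isPullback hsnd hflat
  have : IsAffineHom (snd G X).left := MorphismProperty.of_isPullback hsnd haff
  have : IsAffine (G ⊗ X).left := isAffine_of_isAffineHom (snd G X).left
  refine uniquelyFills_of_open sq hf U jU hQ' kst hst ?_ ?_
  · exact ι_appTop_bijective a b ha hb hab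
  · let a' : Γ((G ⊗ X).left, ⊤) := (snd G X).left.appTop a
    have hinj := ι_appTop_injective a' (appTop_regular (snd G X).left ha)
    have hsq : IsPullback (G ◁ jU).left (snd G U).left (snd G X).left jU.left :=
      (AlgSt.isPullback_whiskerLeft jU).map (Over.forget S')
    let ι' := ((G ⊗ X).left.basicOpen a').ι
    have hr : Set.range (ι' ≫ (snd G X).left) ⊆ Set.range V.ι := by
      rw [Scheme.Opens.range_ι]
      rintro _ ⟨z, rfl⟩
      have hz : ι' z ∈ (snd G X).left ⁻¹ᵁ X.left.basicOpen a := by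
        rw [Scheme.preimage_basicOpen_top]
        exact z.2
      exact Or.inl hz
    let l := hsq.lift ι' (IsOpenImmersion.lift V.ι (ι' ≫ (snd G X).left) hr) (IsOpenImmersion.lift_fac _ _ _).symm
    intro x y e
    refine hinj ?_
    show ι'.appTop x = ι'.appTop y
    rw [← show l ≫ (G ◁ jU).left = ι' from hsq.lift_fst _ _ _]
    exact congrArg l.appTop e

end Groth.Agent.ThetaL
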